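import Groth.Agent.LieRedLib.LinRed
import Groth.Agent.CoactPtsLib.Bridge
import Groth.Agent.TorusField.Bridge
import Groth.Agent.QuotTorus.Main
import Groth.Agent.ZeroAcycLib.Connected
import Groth.Agent.Comodule.UnipotentDual
import Groth.Agent.S3265
import Groth.Agent.S18813
import Groth.Prelude.Def_Red

/-!
# Reductive groups are linearly reductive in characteristic zero
-/

set_option autoImplicit false
set_option maxHeartbeats 1000000
set_option linter.style.haveILetI false
set_option backward.isDefEq.respectTransparency false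
set_option backward.isDefEq.respectTransparency.types false

universe u

open CategoryTheory CategoryTheory.Limits MonoidalCategory CartesianMonoidalCategory MonObj AlgebraicGeometry
open TensorProduct WithConv

noncomputable section

namespace Groth.Agent.LieRed

open Groth.Agent.Comodule

attribute [-instance] CategoryTheory.Hom.commGroup

/-- Morphisms to an affine scheme factor through ring-valued points. -/
theorem exists_pt_factor {k : Type u} [CommRing k] {T : Over (Spec (CommRingCat.of k))} :
    ∃ (R : Type u) (_ : CommRing R) (_ : Algebra k R) (j : T ⟶ CoactBr.sp k R),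
      ∀ (B : Type u) (_ : CommRing B) (_ : Algebra k B) (g : T ⟶ CoactBr.sp k B),
        ∃ φ : B →ₐ[k] R, g = j ≫ CoactBr.pt φ := by
  let σ : CommRingCat.of k ⟶ Γ(T.left, ⊤) := (Scheme.ΓSpecIso (CommRingCat.of k)).inv ≫ T.hom.appTop
  letI : Algebra k Γ(T.left, ⊤) := σ.hom.toAlgebra
  have hfac : ∀ {B : CommRingCat.{u}} (f : T.left ⟶ Spec B),
      f = T.left.toSpecΓ ≫ Spec.map ((Scheme.ΓSpecIso B).inv ≫ f.appTop) := fun {B} f => by
    rw [Spec.map_comp, ← Scheme.toSpecΓ_naturality_assoc, ← SpecMap_ΓSpecIso_hom, ← Spec.map_comp, Iso.inv_hom_id,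
      Spec.map_id, Category.comp_id]
  let j : T ⟶ CoactBr.sp k Γ(T.left, ⊤) := Over.homMk T.left.toSpecΓ (hfac T.hom).symm
  refine ⟨Γ(T.left, ⊤), inferInstance, inferInstance, j, fun B _ _ g => ?_⟩
  let ψ : CommRingCat.of B ⟶ Γ(T.left, ⊤) := (Scheme.ΓSpecIso (CommRingCat.of B)).inv ≫ g.left.appTop
  have hψ : CommRingCat.ofHom (algebraMap k B) ≫ ψ = σ := by
    have hw : g.left ≫ Spec.map (CommRingCat.ofHom (algebraMap k B)) = T.hom := Over.w g
    show _ = (Scheme.ΓSpecIso (CommRingCat.of k)).inv ≫ T.hom.appTop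
    rw [← hw, Scheme.Hom.comp_appTop, ← Category.assoc _ (Spec.map _).appTop,
      ← Scheme.ΓSpecIso_inv_naturality]
    rfl
  refine ⟨{ ψ.hom with commutes' := fun r => congr($(hψ).hom r) }, Over.OverMorphism.ext ?_⟩
  exact hfac g.left

/-- A group embedded in a unipotent group in characteristic zero has no point of order two. -/
theorem eq_one_of_sq {k : Type u} [Field k] [CharZero k] {B C : Type u} [CommRing B] [HopfAlgebra k B]
    [CommRing C] [HopfAlgebra k C] (hU : HopfRep.IsUnipotent k B) [Algebra.FiniteType k B]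
    (f : CoactBr.sp k C ⟶ CoactBr.sp k B) [IsMonHom f] [Mono f] {L : Type u} [Field L] [Algebra k L]
    (x : C →ₐ[k] L) (hx : toConv x * toConv x = 1) : toConv x = 1 := by
  haveI : CharZero L := charZero_of_injective_algebraMap (algebraMap k L).injective
  obtain ⟨ψ, hψ⟩ := CoactPtsLib.exists_pt f
  have hm : ∀ p q : C →ₐ[k] L, (CoactBr.pt p * CoactBr.pt q : _ ⟶ CoactBr.sp k C) =
      CoactBr.pt (toConv p * toConv q).ofConv := fun p q =>
    (map_mul Spec.mapMulEquiv (toConv p) (toConv q)).symm
  have hm' : ∀ p q : B →ₐ[k] L, (CoactBr.pt p * CoactBr.pt q : _ ⟶ CoactBr.sp k B) =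
      CoactBr.pt (toConv p * toConv q).ofConv := fun p q =>
    (map_mul Spec.mapMulEquiv (toConv p) (toConv q)).symm
  have hone : CoactBr.pt (1 : WithConv (C →ₐ[k] L)).ofConv = (1 : _ ⟶ CoactBr.sp k C) :=
    CoactBr.one_eq_pt.symm
  have hone' : CoactBr.pt (1 : WithConv (B →ₐ[k] L)).ofConv = (1 : _ ⟶ CoactBr.sp k B) :=
    CoactBr.one_eq_pt.symm
  have hy : toConv (x.comp ψ) * toConv (x.comp ψ) = 1 := by
    suffices h : CoactBr.pt (toConv (x.comp ψ) * toConv (x.comp ψ)).ofConv =
        CoactBr.pt (1 : WithConv (B →ₐ[k] L)).ofConv from congrArg toConv (CoactBr.pt_injective h)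
    rw [← hm', hone', CoactBr.pt_comp, ← hψ, ← MonObj.mul_comp, hm, hx, hone, MonObj.one_comp]
  have hy1 : toConv (x.comp ψ) = 1 := by
    have hA : ∀ a : B, ∃ n, a ∈ fil k B B n := isUnipotent_iff_fil.mp hU
    have h1 : Van 1 ((1 : WithConv (B →ₗ[k] L)) - 1) := by
      rw [sub_self]
      exact fun z _ => rfl
    have h := root_unique hA (e := 2) two_ne_zero (van_algHom_sub_one (x.comp ψ)) h1
      (by
        rw [one_pow, pow_two, ← AlgHom.toLinearMap_convOne]
        have := congrArg (fun z : WithConv (B →ₐ[k] L) => toConv z.ofConv.toLinearMap) hy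
        simp only [AlgHom.toLinearMap_convMul] at this
        exact this)
    exact congrArg toConv (AlgHom.toLinearMap_injective (congrArg WithConv.ofConv h))
  suffices h : CoactBr.pt x = CoactBr.pt (1 : WithConv (C →ₐ[k] L)).ofConv from
    congrArg toConv (CoactBr.pt_injective h)
  rw [hone, ← cancel_mono f, MonObj.one_comp, hψ, ← CoactBr.pt_comp, ← hone']
  have hy2 : x.comp ψ = (1 : WithConv (B →ₐ[k] L)).ofConv := congrArg WithConv.ofConv hy1
  rw [hy2]

/-- A unipotent group in characteristic zero has no subtorus. -/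
theorem hasNoSubtorus_of_isUnipotent {k : Type u} [Field k] [CharZero k] {B : Type u} [CommRing B]
    [HopfAlgebra k B] [Algebra.FiniteType k B] (hU : HopfRep.IsUnipotent k B) :
    Red.HasNoSubtorus k (CoactBr.sp k B) := by
  classical
  intro T _ j _ _ hT
  obtain ⟨S', f, -, hfs, -, hloc⟩ := hT
  haveI := hfs
  haveI : Nonempty ↥(Spec (CommRingCat.of k)) := inferInstanceAs (Nonempty (PrimeSpectrum k))
  obtain ⟨s', -⟩ := f.surjective (Classical.arbitrary ↥(Spec (CommRingCat.of k)))
  obtain ⟨U, hs', r, hsplit⟩ := hloc s'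
  let L : Type u := ↑((U : Scheme.{u}).residueField ⟨s', hs'⟩)
  let c : Spec (CommRingCat.of L) ⟶ (U : Scheme.{u}) := (U : Scheme.{u}).fromSpecResidueField ⟨s', hs'⟩
  letI : Algebra k L := (Spec.preimage (c ≫ U.ι ≫ f)).hom.toAlgebra
  have hsplitL : Red.IsSplitTorusWith (Fin r → ℤ)
      (Red.bc (Spec.map (CommRingCat.ofHom (algebraMap k L))) T) :=
    QuotTorus.isSplit_of_comp c (U.ι ≫ f) (Spec.map_preimage (c ≫ U.ι ≫ f)).symm hsplit
  obtain ⟨C, _, _, ⟨e⟩, ⟨eL⟩⟩ := TorusField.exists_hopf_split k T hsplitL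
  let e₀ : CoactBr.sp k C ≅ T := (Grp.forget _).mapIso e
  haveI : IsMonHom e₀.hom := inferInstanceAs (IsMonHom e.hom.hom.hom)
  haveI : IsMonHom (e₀.hom ≫ j) := inferInstance
  have h2 : ∀ x : C →ₐ[k] L, toConv x * toConv x = 1 → toConv x = 1 :=
    fun x hx => eq_one_of_sq hU (e₀.hom ≫ j) x hx
  -- hence the rank is zero
  have hr : r = 0 := by
    by_contra hr
    let i₀ : Fin r := ⟨0, Nat.pos_of_ne_zero hr⟩
    let χ₀ : Multiplicative (Fin r → ℤ) →* L :=
      { toFun := fun m => (-1 : L) ^ (m.toAdd i₀)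
        map_one' := zpow_zero _
        map_mul' := fun m n => zpow_add₀ (neg_ne_zero.mpr one_ne_zero) _ _ }
    let χ : MonoidAlgebra L (Multiplicative (Fin r → ℤ)) →ₐ[L] L := MonoidAlgebra.lift L L _ χ₀
    have hχ : toConv χ * toConv χ = 1 := by
      suffices h : (toConv χ * toConv χ).ofConv =
          (1 : WithConv (MonoidAlgebra L (Multiplicative (Fin r → ℤ)) →ₐ[L] L)).ofConv from congrArg toConv h
      refine MonoidAlgebra.algHom_ext (single_one_left := Subsingleton.elim _ _) fun m => ?_
      rw [AlgHom.convMul_apply, AlgHom.convOne_apply]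
      simp only [MonoidAlgebra.of_apply, MonoidAlgebra.comul_single, CommSemiring.comul_apply,
        MonoidAlgebra.counit_single, CommSemiring.counit_apply]
      simp only [χ, χ₀]
      simp [← mul_zpow]
      rw [show ((-1 : L) * -1) = 1 by ring]
      exact one_zpow _
    let y : L ⊗[k] C →ₐ[L] L := χ.comp (eL : L ⊗[k] C →ₐ[L] _)
    have hy : toConv y * toConv y = 1 := by
      have h := AlgHom.convMul_comp_bialgHom_distrib (toConv χ) (toConv χ) (eL : L ⊗[k] C →ₐc[L] _)
      rw [hχ] at h
      refine congrArg toConv (AlgHom.ext fun z => ?_)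
      have h' := AlgHom.congr_fun h z
      refine h'.symm.trans ?_
      show algebraMap L L (Coalgebra.counit (R := L) (eL z)) = algebraMap L L (Coalgebra.counit (R := L) z)
      rw [CoalgHomClass.counit_comp_apply]
    let x : C →ₐ[k] L := (y.restrictScalars k).comp Algebra.TensorProduct.includeRight
    have hx : toConv x * toConv x = 1 := by
      suffices h : (toConv x * toConv x).ofConv = (1 : WithConv (C →ₐ[k] L)).ofConv from congrArg toConv h
      refine AlgHom.ext fun a => ?_
      have h := AlgHom.congr_fun (congrArg WithConv.ofConv hy) ((1 : L) ⊗ₜ[k] a)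
      rw [AlgHom.convMul_apply, AlgHom.convOne_apply, TensorProduct.comul_tmul, TensorProduct.counit_tmul] at h
      rw [AlgHom.convMul_apply, AlgHom.convOne_apply]
      simp only [CommSemiring.comul_apply, CommSemiring.counit_apply] at h
      rw [Algebra.algebraMap_eq_smul_one] at h ⊢
      refine Eq.trans ?_ (h.trans (by simp [smul_smul]))
      generalize Coalgebra.comul (R := k) a = z
      induction z with
      | zero => simp
      | add p q hp hq => simp only [map_add, TensorProduct.tmul_add, hp, hq]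
      | tmul p q => simp [x]
    have hx1 := h2 x hx
    have hy1 : y = (1 : WithConv (L ⊗[k] C →ₐ[L] L)).ofConv := by
      refine Algebra.TensorProduct.ext (Subsingleton.elim _ _) (AlgHom.ext fun a => ?_)
      have := AlgHom.congr_fun (congrArg WithConv.ofConv hx1) a
      rw [AlgHom.convOne_apply] at this
      refine this.trans ?_
      show algebraMap k L _ = algebraMap L L (Coalgebra.counit (R := L) ((1 : L) ⊗ₜ[k] a))
      rw [TensorProduct.counit_tmul]
      simp [Algebra.algebraMap_eq_smul_one]
    let m : Multiplicative (Fin r → ℤ) := Multiplicative.ofAdd (Pi.single i₀ 1)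
    have h := AlgHom.congr_fun hy1 (eL.symm (MonoidAlgebra.single m 1))
    rw [AlgHom.convOne_apply, CoalgHomClass.counit_comp_apply eL.symm, MonoidAlgebra.counit_single] at h
    simp only [y, AlgHom.comp_apply, CommSemiring.counit_apply] at h
    change χ (eL (eL.symm (MonoidAlgebra.single m 1))) = _ at h
    rw [BialgEquiv.apply_symm_apply] at h
    have h' : (-1 : L) = 1 := by simpa [χ, χ₀, m] using h
    haveI : CharZero L := charZero_of_injective_algebraMap (algebraMap k L).injective
    exact two_ne_zero (α := L) (by linear_combination -h')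
  subst hr
  have hfr : Module.finrank k C = 1 := by
    have h1 : Module.finrank L (L ⊗[k] C) = 1 := by
      rw [LinearEquiv.finrank_eq (AlgEquivClass.toAlgEquiv eL : L ⊗[k] C ≃ₐ[L] _).toLinearEquiv]
      haveI : Unique (Multiplicative (Fin 0 → ℤ)) := ⟨⟨1⟩, fun _ => Subsingleton.elim _ _⟩
      exact (LinearEquiv.finrank_eq (MonoidAlgebra.coeffLinearEquiv L)).trans
        ((LinearEquiv.finrank_eq (Finsupp.LinearEquiv.finsuppUnique L L _)).trans (Module.finrank_self L))
    rwa [Module.finrank_baseChange] at h1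
  haveI : Nontrivial C := Module.nontrivial_of_finrank_pos (R := k) (by omega)
  have hbij : Function.Bijective (algebraMap k C) :=
    ⟨(algebraMap k C).injective, fun a => by
      obtain ⟨c, hc⟩ := (finrank_eq_one_iff_of_nonzero' (1 : C) one_ne_zero).mp hfr a
      exact ⟨c, by rw [Algebra.algebraMap_eq_smul_one, hc]⟩⟩
  haveI : IsIso (CommRingCat.ofHom (algebraMap k C)) :=
    (RingEquiv.ofBijective _ hbij).toCommRingCatIso.isIso_hom
  show IsIso T.hom
  haveI : IsIso e₀.inv.left := ((Over.forget _).mapIso e₀).isIso_inv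
  rw [← Over.w e₀.inv]
  haveI : IsIso (CoactBr.sp k C).hom :=
    inferInstanceAs (IsIso (Spec.map (CommRingCat.ofHom (algebraMap k C))))
  infer_instance

section AlgClosed

variable {k : Type u} [Field k] [IsAlgClosed k] [CharZero k] {A : Type u} [CommRing A] [HopfAlgebra k A]
  [Algebra.FiniteType k A]

/-- In a group with trivial unipotent radical the irreducible representations are jointly faithful. -/
theorem covIdeal_eq_of_radical
    (hrad : ∀ (U : Over (Spec (CommRingCat.of k))) [GrpObj U] (i : U ⟶ CoactBr.sp k A) [IsMonHom i],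
      IsClosedImmersion i.left → Smooth U.hom → ConnectedSpace U.left →
      AlgGrp.IsNormalHom i → Red.HasNoSubtorus k U → Red.IsTrivialGrp U) :
    ∀ a : A, Coalgebra.counit (R := k) a = 0 → a ∈ covIdeal k A := by
  classical
  let I := covIdeal k A
  let q : A →ₐ[k] A ⧸ I := Ideal.Quotient.mkₐ k I
  haveI : Algebra.FiniteType k (A ⧸ I) :=
    Algebra.FiniteType.of_surjective q (Ideal.Quotient.mkₐ_surjective _ _)
  have hU : HopfRep.IsUnipotent k (A ⧸ I) := isUnipotent_quot
  haveI : Nontrivial (A ⧸ I) := (Bialgebra.counitAlgHom k (A ⧸ I)).toRingHom.domain_nontrivial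
  have hidem := Groth.Agent.S3265.result k (A ⧸ I) hU
  haveI : _root_.IsReduced (A ⧸ I) := HopfGr.isReduced_charZero (k := k)
  haveI : Algebra.FormallySmooth k (A ⧸ I) := by
    haveI : Algebra.FormallySmooth k ((A ⧸ I) ⧸ nilradical (A ⧸ I)) := HopfGr.formallySmooth_reduced (k := k)
    exact Algebra.FormallySmooth.of_equiv
      ((Ideal.quotientEquivAlgOfEq k (nilradical_eq_zero (A ⧸ I))).trans (AlgEquiv.quotientBot k (A ⧸ I)))
  haveI : Algebra.FinitePresentation k (A ⧸ I) := Algebra.FinitePresentation.of_finiteType.mp inferInstance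
  haveI : Algebra.Smooth k (A ⧸ I) := ⟨inferInstance, inferInstance⟩
  let i : CoactBr.sp k (A ⧸ I) ⟶ CoactBr.sp k A :=
    (TorusField.specHom (Bialgebra.Quotient.mkBialgHom (R := k) I)).hom.hom
  haveI : IsMonHom i := (TorusField.specHom (Bialgebra.Quotient.mkBialgHom (R := k) I)).hom.isMonHom_hom
  have hi : i = CoactBr.pt q := rfl
  have hcl : IsClosedImmersion i.left := by
    rw [hi, CoactBr.pt_left]
    exact IsClosedImmersion.spec_of_surjective _ (Ideal.Quotient.mkₐ_surjective k I)
  have hsm : Smooth (CoactBr.sp k (A ⧸ I)).hom := by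
    show Smooth (Spec.map (CommRingCat.ofHom (algebraMap k (A ⧸ I))))
    rw [HasRingHomProperty.Spec_iff (P := @Smooth), CommRingCat.hom_ofHom, RingHom.smooth_algebraMap]
    infer_instance
  have hcs : ConnectedSpace (CoactBr.sp k (A ⧸ I)).left :=
    ZeroAcycLib.connectedSpace_of_idempotents (A ⧸ I) hidem
  have hn : AlgGrp.IsNormalHom i := by
    intro T g n
    obtain ⟨R, _, _, t, ht⟩ := exists_pt_factor (T := T)
    obtain ⟨gA, rfl⟩ := ht A inferInstance inferInstance g
    obtain ⟨ν, rfl⟩ := ht (A ⧸ I) inferInstance inferInstance n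
    let S := HopfAlgebra.antipodeAlgHom k A
    let h : A →ₐ[k] R := ν.comp q
    have hh : ∀ a ∈ I, h a = 0 := fun a ha => by
      show ν (q a) = 0
      rw [show q a = 0 from Ideal.Quotient.eq_zero_iff_mem.mpr ha, map_zero]
    have hm : ∀ p p' : A →ₐ[k] R, (CoactBr.pt p * CoactBr.pt p' : _ ⟶ CoactBr.sp k A) =
        CoactBr.pt (toConv p * toConv p').ofConv := fun p p' =>
      (map_mul Spec.mapMulEquiv (toConv p) (toConv p')).symm
    have hg : toConv gA * toConv (gA.comp S) = 1 := by
      suffices h : CoactBr.pt (toConv gA * toConv (gA.comp S)).ofConv =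
          CoactBr.pt (1 : WithConv (A →ₐ[k] R)).ofConv from congrArg toConv (CoactBr.pt_injective h)
      rw [← hm, ← CoactBr.pt_inv, mul_inv_cancel]
      exact CoactBr.one_eq_pt
    let c : A →ₐ[k] R := (toConv gA * toConv h * toConv (gA.comp S)).ofConv
    have hc : ∀ a ∈ I, c a = 0 := kills_conj gA (gA.comp S) h hg hh
    refine ⟨t ≫ CoactBr.pt (Ideal.Quotient.liftₐ I c hc), ?_⟩
    rw [Category.assoc, Category.assoc, hi, ← CoactBr.pt_comp, ← CoactBr.pt_comp, ← GrpObj.comp_inv,
      ← MonObj.comp_mul, ← MonObj.comp_mul]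
    congr 1
    rw [CoactBr.pt_inv, hm, hm]
    congr 1
  have htriv : IsIso (Spec.map (CommRingCat.ofHom (algebraMap k (A ⧸ I)))) :=
    hrad _ i hcl hsm hcs hn (hasNoSubtorus_of_isUnipotent hU)
  intro a ha
  have hbij : Function.Bijective (algebraMap k (A ⧸ I)) := by
    haveI : IsIso (Scheme.Spec.map (CommRingCat.ofHom (algebraMap k (A ⧸ I))).op) := htriv
    haveI := isIso_of_reflects_iso (CommRingCat.ofHom (algebraMap k (A ⧸ I))).op Scheme.Spec
    haveI := isIso_of_op (CommRingCat.ofHom (algebraMap k (A ⧸ I)))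
    exact ConcreteCategory.bijective_of_isIso (CommRingCat.ofHom (algebraMap k (A ⧸ I)))
  obtain ⟨c, hc⟩ := hbij.2 (q a)
  have h0 : c = 0 := by
    have := congrArg (Coalgebra.counit (R := k)) hc
    rw [Bialgebra.counit_algebraMap] at this
    exact this.trans ((Bialgebra.Quotient.counit_mk I a).trans ha)
  refine Ideal.Quotient.eq_zero_iff_mem.mp ?_
  show q a = 0
  rw [← hc, h0, map_zero]

/-- A reductive group over an algebraically closed field of characteristic zero is linearly reductive. -/
theorem isLinearlyReductive_of_isReductiveOver (h : Red.IsReductiveOver k (CoactBr.sp k A)) :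
    HopfRep.IsLinearlyReductive k A := by
  obtain ⟨-, -, hc, hrad⟩ := h
  haveI : PreconnectedSpace (PrimeSpectrum A) := hc.toPreconnectedSpace
  exact isLinearlyReductive_of_covIdeal (SpecialGL.eq_zero_or_one_of_connectedSpace (A := A))
    (covIdeal_eq_of_radical hrad)

end AlgClosed

/-- Transport of reductivity along an isomorphism of groups. -/
theorem isReductiveOver_of_iso {K : Type u} [Field K] {G H : Over (Spec (CommRingCat.of K))} [GrpObj G] [GrpObj H]
    (e : G ≅ H) [IsMonHom e.hom] (h : Red.IsReductiveOver K G) : Red.IsReductiveOver K H := by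
  obtain ⟨ha, hs, hc, hr⟩ := h
  haveI : IsMonHom e.inv := inferInstance
  haveI : IsIso e.inv.left := ((Over.forget _).mapIso e).isIso_inv
  haveI := ha
  refine ⟨IsAffine.of_isIso e.inv.left, ?_, ?_, fun U _ i _ hcl hsm hcs hn hU => ?_⟩
  · rw [← Over.w e.inv]
    infer_instance
  · exact e.hom.left.surjective.connectedSpace e.hom.left.continuous
  · haveI := hcl
    refine hr U (i ≫ e.inv) (inferInstanceAs (IsClosedImmersion (i.left ≫ e.inv.left))) hsm hcs (fun T g n => ?_) hU
    obtain ⟨n', hn'⟩ := hn T (g ≫ e.hom) n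
    refine ⟨n', ?_⟩
    have h1 := congrArg (fun z => z ≫ e.inv) hn'
    simp only [MonObj.mul_comp, GrpObj.inv_comp, Category.assoc, e.hom_inv_id, Category.comp_id] at h1
    exact h1

/-- A reductive group in characteristic zero is linearly reductive. -/
theorem isLinearlyReductive_of_isReductive {k : Type u} [Field k] [CharZero k] {A : Type u} [CommRing A]
    [HopfAlgebra k A] [Algebra.FiniteType k A]
    (h : Red.IsReductive ((Spec (CommRingCat.of A)).asOver (Spec (CommRingCat.of k)))) :
    HopfRep.IsLinearlyReductive k A := by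
  obtain ⟨-, -, hfib⟩ := h
  haveI : Nonempty ↥(Spec (CommRingCat.of k)) := inferInstanceAs (Nonempty (PrimeSpectrum k))
  let s : ↥(Spec (CommRingCat.of k)) := Classical.arbitrary _
  let K : Type u := AlgebraicClosure ((Spec (CommRingCat.of k)).residueField s)
  letI : Algebra k K := (Spec.preimage (Red.geomPt s)).hom.toAlgebra
  haveI : CharZero K := charZero_of_injective_algebraMap (algebraMap k K).injective
  have hs : Spec.map (CommRingCat.ofHom (algebraMap k K)) = Red.geomPt s := Spec.map_preimage _
  have h1 : Red.IsReductiveOver K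
      (Red.bc (Spec.map (CommRingCat.ofHom (algebraMap k K))) (CoactBr.sp k A)) := by
    rw [hs]
    exact hfib s
  let g := TorusField.bcSpecIso k K A
  let e' : Red.bc (Spec.map (CommRingCat.ofHom (algebraMap k K))) (CoactBr.sp k A) ≅
      CoactBr.sp K (K ⊗[k] A) := (Grp.forget _).mapIso g
  haveI : IsMonHom e'.hom := inferInstanceAs (IsMonHom g.hom.hom.hom)
  have h2 := isReductiveOver_of_iso e' h1
  rw [Groth.Agent.S18813.result k K A]
  exact isLinearlyReductive_of_isReductiveOver h2

end Groth.Agent.LieRed
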