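import Mathlib

/-!
# Complete reducibility for Lie algebras with enough irreducible representations

If a finite-dimensional Lie algebra in characteristic zero has a jointly faithful family of irreducible
representations, then its radical is central, and an invariant functional on a representation in which the centre
acts semisimply has an invariant section.
-/

set_option autoImplicit false
set_option backward.isDefEq.respectTransparency false
set_option backward.isDefEq.respectTransparency.types false

universe u v w x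

open LieAlgebra LieModule Module

noncomputable section

namespace Groth.Agent.LieRed

attribute [local instance 100] LieRing.ofAssociativeRing

variable {k : Type u} [Field k] [CharZero k] [IsAlgClosed k]
variable {L : Type v} [LieRing L] [LieAlgebra k L] [Module.Finite k L]

theorem radical_le_center {ι : Type x} (M : ι → Type w) [∀ i, AddCommGroup (M i)] [∀ i, Module k (M i)]
    [∀ i, LieRingModule L (M i)] [∀ i, LieModule k L (M i)] [∀ i, Module.Finite k (M i)]
    [∀ i, LieModule.IsIrreducible k L (M i)]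
    (hf : ∀ x : L, (∀ i (m : M i), ⁅x, m⁆ = 0) → x = 0) :
    radical k L ≤ LieAlgebra.center k L := by
  intro x hx
  refine (mem_maxTrivSubmodule k L L x).mpr fun y => hf _ fun i m => ?_
  haveI := nontrivial_of_isIrreducible k L (M i)
  obtain ⟨χ, hχ⟩ : ∃ χ : Module.Dual k (radical k L), Nontrivial (weightSpace (M i) χ) :=
    exists_nontrivial_weightSpace_of_isSolvable k (radical k L) (M i)
  let N : LieSubmodule k L (M i) := weightSpaceOfIsLieTower k (M i) χ
  haveI : Nontrivial N := hχ
  have hN : N = ⊤ := N.eq_top_of_isIrreducible k L (M i)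
  have hsc : ∀ (z : L) (hz : z ∈ radical k L) (m : M i), ⁅z, m⁆ = χ ⟨z, hz⟩ • m := fun z hz m => by
    have hm : ∀ (y : L) (hy : y ∈ radical k L), ⁅y, m⁆ = χ ⟨y, hy⟩ • m := by
      simpa [N, weightSpaceOfIsLieTower, mem_weightSpace] using (hN ▸ LieSubmodule.mem_top _ : m ∈ N)
    exact hm z hz
  rw [lie_lie, hsc x hx, hsc x hx, lie_smul, sub_self]

section Trace

variable {W : Type w} [AddCommGroup W] [Module k W] [LieRingModule L W] [LieModule k L W] [Module.Finite k W]

/-- The radical of the trace form. -/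
def traceKer (W : Type w) [AddCommGroup W] [Module k W] [LieRingModule L W] [LieModule k L W] : LieIdeal k L where
  carrier := {x | ∀ y, traceForm k L W x y = 0}
  add_mem' := fun ha hb y => by rw [map_add, LinearMap.add_apply, ha y, hb y, add_zero]
  zero_mem' := fun y => by rw [map_zero, LinearMap.zero_apply]
  smul_mem' := fun c a ha y => by rw [map_smul, LinearMap.smul_apply, ha y, smul_zero]
  lie_mem := fun {z a} ha y => by rw [traceForm_apply_lie_apply', ha, neg_zero]

/-- The operators kill the radical of the trace form. -/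
theorem toEnd_eq_zero_of_traceKer (hc : radical k L ≤ LieAlgebra.center k L)
    (hz : ∀ z ∈ LieAlgebra.center k L, ∀ w : W, ⁅z, w⁆ = 0)
    (K : LieSubmodule k L W) (hK : ∀ N : LieSubmodule k L W, N ≤ K → N ≠ ⊥ → N = K)
    (hWK : ∀ (x : L) (w : W), ⁅x, w⁆ ∈ K) {x : L} (hx : x ∈ traceKer (k := k) (L := L) W) (w : W) :
    ⁅x, w⁆ = 0 := by
  let N : LieIdeal k L := traceKer (k := k) (L := L) W
  let D : LieIdeal k L := ⁅N, N⁆
  let I : LieIdeal k L := LieModule.ker k L W
  have hI : ∀ {z : L}, z ∈ I ↔ ∀ w : W, ⁅z, w⁆ = 0 := fun {z} => by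
    simp [I, LinearMap.ext_iff]
  -- `D` acts nilpotently
  have hnil : ∀ a : L, a ∈ D → _root_.IsNilpotent (toEnd k L W a) := by
    intro a ha
    have htf : traceForm k N W = 0 := by
      refine LinearMap.ext fun p => LinearMap.ext fun q => ?_
      exact p.2 q.1
    haveI := isNilpotent_derivedSeries_of_traceForm_eq_zero htf
    have ha' : (⟨a, LieSubmodule.lie_le_left N N ha⟩ : N) ∈ derivedSeries k N 1 := by
      rw [LieIdeal.derivedSeries_eq_derivedSeriesOfIdeal_comap, LieIdeal.mem_comap,
        derivedSeriesOfIdeal_succ, derivedSeriesOfIdeal_zero]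
      exact ha
    exact (LieModule.isNilpotent_iff_forall' (R := k) (L := derivedSeries k N 1) (M := W)).mp inferInstance
      ⟨_, ha'⟩
  -- hence kills `K`
  have hDK : ∀ a ∈ D, ∀ m ∈ K, ⁅a, m⁆ = 0 := by
    rcases eq_or_ne K ⊥ with hb | hb
    · intro a _ m hm
      rw [hb, LieSubmodule.mem_bot] at hm
      rw [hm, lie_zero]
    let T : LieSubmodule k L W :=
      { carrier := {m | m ∈ K ∧ ∀ a ∈ D, ⁅a, m⁆ = 0}
        add_mem' := fun hp hq => ⟨add_mem hp.1 hq.1, fun a ha => by rw [lie_add, hp.2 a ha, hq.2 a ha, add_zero]⟩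
        zero_mem' := ⟨zero_mem K, fun a _ => lie_zero a⟩
        smul_mem' := fun c p hp => ⟨K.smul_mem c hp.1, fun a ha => by rw [lie_smul, hp.2 a ha, smul_zero]⟩
        lie_mem := fun {z p} hp => ⟨K.lie_mem hp.1, fun a ha => by
          rw [leibniz_lie, hp.2 a ha, lie_zero, add_zero]
          exact hp.2 _ (by rw [← lie_skew]; exact neg_mem (D.lie_mem ha))⟩ }
    haveI : Nontrivial K := (LieSubmodule.nontrivial_iff_ne_bot k L W).mpr hb
    haveI : LieModule.IsNilpotent D K := (LieModule.isNilpotent_iff_forall' (R := k) (L := D) (M := K)).mpr fun a => by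
      obtain ⟨n, hn⟩ := hnil a.1 a.2
      refine ⟨n, LinearMap.ext fun m => Subtype.ext ?_⟩
      have h : ∀ j : ℕ, (((toEnd k D K a) ^ j) m : W) = ((toEnd k L W a.1) ^ j) m := fun j => by
        induction j with
        | zero => rfl
        | succ j ih =>
          rw [pow_succ', pow_succ', Module.End.mul_apply, Module.End.mul_apply, ← ih]
          rfl
      rw [h n, hn]
      rfl
    haveI := LieModule.nontrivial_max_triv_of_isNilpotent k D K
    obtain ⟨⟨⟨m, hm⟩, hmt⟩, hm0⟩ := exists_ne (0 : LieModule.maxTrivSubmodule k D K)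
    have hT : T = K := hK T (fun p hp => hp.1) fun h0 => by
      have : m ∈ T := ⟨hm, fun a ha => congrArg Subtype.val
        ((LieModule.mem_maxTrivSubmodule k D K ⟨m, hm⟩).mp hmt ⟨a, ha⟩)⟩
      rw [h0, LieSubmodule.mem_bot] at this
      exact hm0 (Subtype.ext (Subtype.ext this))
    intro a ha m hm
    exact ((hT ▸ hm : m ∈ T)).2 a ha
  have hD2 : (⁅D, D⁆ : LieIdeal k L) ≤ I := by
    rw [LieSubmodule.lieIdeal_oper_eq_span, LieSubmodule.lieSpan_le]
    rintro _ ⟨⟨a, ha⟩, ⟨b, hb⟩, rfl⟩
    refine hI.mpr fun w => ?_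
    rw [lie_lie, hDK a ha _ (hWK b w), hDK b hb _ (hWK a w), sub_zero]
  -- use the Killing form
  have hzI : LieAlgebra.center k L ≤ I := fun z hz' => hI.mpr (hz z hz')
  let J : LieIdeal k L := LieIdeal.killingCompl k L I
  have hcle : LieAlgebra.center k L ≤ LieIdeal.killingCompl k L ⊤ := fun z hz' =>
    (LieIdeal.mem_killingCompl k L ⊤).mpr fun y _ => by
      have : ad k L z = 0 := LinearMap.ext fun q => by
        rw [ad_apply, ← lie_skew, (mem_maxTrivSubmodule k L L z).mp hz' q, neg_zero]
        rfl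
      rw [killingForm_apply_apply, this, LinearMap.comp_zero, map_zero]
  have hktop : LieIdeal.killingCompl k L ⊤ ≤ LieAlgebra.center k L :=
    (killingCompl_top_le_radical k L).trans hc
  have hIJ : I ⊓ J ≤ LieAlgebra.center k L := by
    refine le_trans ?_ hc
    rw [← LieIdeal.solvable_iff_le_radical]
    refine LieIdeal.isSolvable_of_killingForm_apply_lie_eq_zero _ fun p hp q hq => ?_
    have hq' : q ∈ I ⊓ J := LieSubmodule.lie_le_left _ _ hq
    exact (LieIdeal.mem_killingCompl k L I).mp hq'.2 p hp.1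
  have hsup : I.toSubmodule ⊔ J.toSubmodule = ⊤ := by
    have hJ : J.toSubmodule = (killingForm k L).orthogonal I.toSubmodule := rfl
    have hKt : (killingForm k L).orthogonal ⊤ = (LieAlgebra.center k L).toSubmodule := by
      have : (killingForm k L).orthogonal ⊤ = (LieIdeal.killingCompl k L ⊤).toSubmodule := rfl
      rw [this, le_antisymm hktop hcle]
    have hrefl : (killingForm k L).IsRefl := (LieModule.traceForm_isSymm k L L).isRefl
    have h1 := LinearMap.BilinForm.finrank_add_finrank_orthogonal hrefl I.toSubmodule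
    rw [← hJ, hKt] at h1
    have h2 : I.toSubmodule ⊓ (LieAlgebra.center k L).toSubmodule = (LieAlgebra.center k L).toSubmodule :=
      inf_eq_right.mpr hzI
    have h3 : I.toSubmodule ⊓ J.toSubmodule = (LieAlgebra.center k L).toSubmodule := by
      refine le_antisymm (fun p hp => hIJ ⟨hp.1, hp.2⟩) (fun p hp => ⟨hzI hp, ?_⟩)
      refine (LieIdeal.mem_killingCompl k L I).mpr fun y _ => ?_
      exact (LieIdeal.mem_killingCompl k L ⊤).mp (hcle hp) y (LieSubmodule.mem_top y)
    have h4 := Submodule.finrank_sup_add_finrank_inf_eq I.toSubmodule J.toSubmodule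
    rw [h3] at h4
    rw [h2] at h1
    exact Submodule.eq_top_of_finrank_eq (by omega)
  -- the part of `N` orthogonal to `I` is central
  let M : LieIdeal k L := N ⊓ J
  have hM : M ≤ LieAlgebra.center k L := by
    refine le_trans ?_ hc
    rw [← LieIdeal.solvable_iff_le_radical]
    refine IsSolvable.mk (k := 3) ((LieIdeal.derivedSeries_eq_bot_iff M 3).mpr ?_)
    rw [derivedSeriesOfIdeal_succ, derivedSeriesOfIdeal_succ, derivedSeriesOfIdeal_succ, derivedSeriesOfIdeal_zero]
    have h2 : (⁅(⁅M, M⁆ : LieIdeal k L), (⁅M, M⁆ : LieIdeal k L)⁆ : LieIdeal k L) ≤ LieAlgebra.center k L := by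
      refine le_trans (le_inf ?_ ?_) hIJ
      · exact le_trans (LieSubmodule.mono_lie (LieSubmodule.mono_lie inf_le_left inf_le_left)
          (LieSubmodule.mono_lie inf_le_left inf_le_left)) hD2
      · exact le_trans (LieSubmodule.lie_le_left _ _) (le_trans (LieSubmodule.lie_le_left _ _) inf_le_right)
    rw [LieSubmodule.lie_eq_bot_iff]
    intro p hp q hq
    exact (mem_maxTrivSubmodule k L L q).mp (h2 hq) p
  obtain ⟨p, hp, q, hq, rfl⟩ := Submodule.mem_sup.mp (hsup ▸ Submodule.mem_top : x ∈ I.toSubmodule ⊔ J.toSubmodule)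
  have hpN : p ∈ N := fun y => by
    have : toEnd k L W p = 0 := LinearMap.ext (hI.mp hp)
    rw [traceForm_apply_apply, this, LinearMap.zero_comp, map_zero]
  have hqN : q ∈ N := by
    have := sub_mem hx hpN
    rwa [add_sub_cancel_left] at this
  rw [add_lie, hI.mp hp w, hz q (hM ⟨hqN, hq⟩) w, add_zero]

end Trace

/-- The Casimir argument: an invariant functional with irreducible kernel splits. -/
theorem exists_lift_irreducible (hc : radical k L ≤ LieAlgebra.center k L)
    {W : Type w} [AddCommGroup W] [Module k W] [LieRingModule L W] [LieModule k L W] [Module.Finite k W]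
    (hz : ∀ z ∈ LieAlgebra.center k L, ∃ p : Polynomial k, Squarefree p ∧ Polynomial.aeval (toEnd k L W z) p = 0)
    (f : W →ₗ[k] k) (hinv : ∀ (x : L) (w : W), f ⁅x, w⁆ = 0) {w₀ : W} (hw₀ : f w₀ = 1)
    (K : LieSubmodule k L W) (hKf : ∀ w, w ∈ K ↔ f w = 0)
    (hK : ∀ N : LieSubmodule k L W, N ≤ K → N ≠ ⊥ → N = K) :
    ∃ w : W, (∀ x : L, ⁅x, w⁆ = 0) ∧ f w = 1 := by
  classical
  have hWK : ∀ (x : L) (w : W), ⁅x, w⁆ ∈ K := fun x w => (hKf _).mpr (hinv x w)
  have hsplit : ∀ w, w - f w • w₀ ∈ K := fun w => by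
    rw [hKf, map_sub, map_smul, hw₀, smul_eq_mul, mul_one, sub_self]
  -- an operator commuting with `L` with values in `K` is a scalar on `K`
  have schur : ∀ C : W →ₗ[k] W, (∀ (x : L) (w : W), C ⁅x, w⁆ = ⁅x, C w⁆) → (∀ w, C w ∈ K) → K ≠ ⊥ →
      ∃ c : k, ∀ m ∈ K, C m = c • m := by
    intro C hC hCK hb
    haveI : Nontrivial K.toSubmodule := (LieSubmodule.nontrivial_iff_ne_bot k L W).mpr hb
    obtain ⟨c, hc'⟩ := Module.End.exists_eigenvalue (C.restrict (p := K.toSubmodule) (q := K.toSubmodule) fun m _ => hCK m)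
    obtain ⟨⟨m₀, hm₀⟩, hev⟩ := hc'.exists_hasEigenvector
    let T : LieSubmodule k L W :=
      { carrier := {m | m ∈ K ∧ C m = c • m}
        add_mem' := fun hp hq => ⟨add_mem hp.1 hq.1, by rw [map_add, hp.2, hq.2, smul_add]⟩
        zero_mem' := ⟨zero_mem K, by rw [map_zero, smul_zero]⟩
        smul_mem' := fun d p hp => ⟨K.smul_mem d hp.1, by rw [map_smul, hp.2, smul_comm]⟩
        lie_mem := fun {z p} hp => ⟨K.lie_mem hp.1, by rw [hC, hp.2, lie_smul]⟩ }
    have hT : T = K := hK T (fun p hp => hp.1) fun h0 => by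
      have : m₀ ∈ T := ⟨hm₀, congrArg Subtype.val hev.apply_eq_smul⟩
      rw [h0, LieSubmodule.mem_bot] at this
      exact hev.2 (Subtype.ext this)
    exact ⟨c, fun m hm => ((hT ▸ hm : m ∈ T)).2⟩
  have finish : ∀ C : W →ₗ[k] W, (∀ (x : L) (w : W), C ⁅x, w⁆ = ⁅x, C w⁆) → (∀ w, C w ∈ K) →
      ∀ c : k, c ≠ 0 → (∀ m ∈ K, C m = c • m) → ∃ w : W, (∀ x : L, ⁅x, w⁆ = 0) ∧ f w = 1 := by
    intro C hC hCK c hc0 hCm
    have hf' : f (C w₀) = 0 := (hKf _).mp (hCK w₀)
    refine ⟨w₀ - c⁻¹ • C w₀, fun x => ?_, by rw [map_sub, map_smul, hf', smul_zero, sub_zero, hw₀]⟩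
    rw [lie_sub, lie_smul, ← hC, hCm _ (hWK x w₀), smul_smul, inv_mul_cancel₀ hc0, one_smul, sub_self]
  by_cases hb : K = ⊥
  · refine ⟨w₀, fun x => ?_, hw₀⟩
    have := hWK x w₀
    rwa [hb, LieSubmodule.mem_bot] at this
  by_cases hzc : ∀ z ∈ LieAlgebra.center k L, ∀ w : W, ⁅z, w⁆ = 0
  swap
  · push Not at hzc
    obtain ⟨z, hz', w₁, hw₁⟩ := hzc
    have hcomm : ∀ (x : L) (w : W), (toEnd k L W z) ⁅x, w⁆ = ⁅x, toEnd k L W z w⁆ := fun x w => by
      simp only [toEnd_apply_apply]
      rw [leibniz_lie, ← lie_skew, (mem_maxTrivSubmodule k L L z).mp hz' x, neg_zero, zero_lie, zero_add]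
    obtain ⟨c, hc'⟩ := schur (toEnd k L W z) hcomm (fun w => hWK z w) hb
    rcases eq_or_ne c 0 with rfl | hc0
    · exfalso
      obtain ⟨p, hp, hp0⟩ := hz z hz'
      have hnil : _root_.IsNilpotent (toEnd k L W z) := ⟨2, LinearMap.ext fun w => by
        rw [pow_two, Module.End.mul_apply]
        exact (hc' _ (hWK z w)).trans (zero_smul _ _)⟩
      have h0 := Module.End.eq_zero_of_isNilpotent_isSemisimple hnil
        (Module.End.isSemisimple_of_squarefree_aeval_eq_zero hp hp0)
      exact hw₁ (LinearMap.congr_fun h0 w₁)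
    · exact finish _ hcomm (fun w => hWK z w) c hc0 hc'
  -- the operators
  let Q : Submodule k (Module.End k W) := LinearMap.range (toEnd k L W).toLinearMap
  let B : LinearMap.BilinForm k Q :=
    ((LinearMap.mul k (Module.End k W)).compr₂ (LinearMap.trace k W)).compl₁₂ Q.subtype Q.subtype
  have hB : ∀ p q : Q, B p q = LinearMap.trace k W ((p : Module.End k W) * q) := fun p q => rfl
  have hBsym : ∀ p q : Q, B p q = B q p := fun p q => by rw [hB, hB, LinearMap.trace_mul_comm]
  have hnd : B.Nondegenerate := by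
    have hl : ∀ p : Q, (∀ q : Q, B p q = 0) → p = 0 := by
      rintro ⟨p, x, rfl⟩ hp
      refine Subtype.ext (LinearMap.ext fun w => ?_)
      exact toEnd_eq_zero_of_traceKer hc hzc K hK hWK (x := x) (fun y => hp ⟨_, y, rfl⟩) w
    exact ⟨fun p hp => hl p hp, fun p hp => hl p fun q => by rw [hBsym]; exact hp q⟩
  let b := Module.finBasis k Q
  let b' := B.dualBasis hnd b
  let C : Module.End k W := ∑ i, (b' i : Module.End k W) * (b i : Module.End k W)
  have hbr : ∀ (x : L) (q : Q), (toEnd k L W x) * (q : Module.End k W) - (q : Module.End k W) * toEnd k L W x ∈ Q := by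
    rintro x ⟨q, y, rfl⟩
    exact ⟨⁅x, y⁆, (LieHom.map_lie (toEnd k L W) x y).trans (Ring.lie_def _ _)⟩
  have hC : ∀ (x : L) (w : W), C ⁅x, w⁆ = ⁅x, C w⁆ := by
    intro x w
    let T := toEnd k L W x
    let br : Q → Q := fun q => ⟨T * (q : Module.End k W) - (q : Module.End k W) * T, hbr x q⟩
    have hinvB : ∀ p q : Q, B (br p) q = - B p (br q) := fun p q => by
      rw [hB, hB]
      show LinearMap.trace k W ((T * (p : Module.End k W) - (p : Module.End k W) * T) * q) =
        - LinearMap.trace k W ((p : Module.End k W) * (T * (q : Module.End k W) - (q : Module.End k W) * T))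
      rw [sub_mul, mul_sub, map_sub, map_sub, LinearMap.trace_mul_cycle' k (p : Module.End k W) (q : Module.End k W) T,
        mul_assoc, mul_assoc, neg_sub]
    have h1 : ∀ i, br (b i) = ∑ j, B (b' j) (br (b i)) • b j := fun i => by
      conv_lhs => rw [← b.sum_repr (br (b i))]
      refine Finset.sum_congr rfl fun j _ => ?_
      congr 1
      conv_rhs => rw [← b.sum_repr (br (b i)), map_sum]
      simp [b', LinearMap.BilinForm.apply_dualBasis_left]
    have h2 : ∀ j, br (b' j) = ∑ i, B (br (b' j)) (b i) • b' i := fun j => by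
      conv_lhs => rw [← b'.sum_repr (br (b' j))]
      exact Finset.sum_congr rfl fun i _ => by rw [LinearMap.BilinForm.dualBasis_repr_apply]
    have key : T * C - C * T = 0 := by
      have e : T * C - C * T = ∑ i, ((br (b' i) : Module.End k W) * b i + (b' i : Module.End k W) * br (b i)) := by
        simp only [C, Finset.mul_sum, Finset.sum_mul, ← Finset.sum_sub_distrib]
        refine Finset.sum_congr rfl fun i _ => ?_
        simp only [br]
        noncomm_ring
      have s1 : ∀ i, (br (b i) : Module.End k W) = ∑ j, B (b' j) (br (b i)) • (b j : Module.End k W) := fun i => by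
        conv_lhs => rw [h1 i]
        simp [Submodule.coe_sum]
      have s2 : ∀ j, (br (b' j) : Module.End k W) = ∑ i, B (br (b' j)) (b i) • (b' i : Module.End k W) := fun j => by
        conv_lhs => rw [h2 j]
        simp [Submodule.coe_sum]
      rw [e, Finset.sum_add_distrib]
      simp only [s1, s2, Finset.sum_mul, Finset.mul_sum, smul_mul_assoc, mul_smul_comm]
      rw [Finset.sum_comm, ← Finset.sum_add_distrib]
      refine Finset.sum_eq_zero fun i _ => ?_
      rw [← Finset.sum_add_distrib]
      refine Finset.sum_eq_zero fun j _ => ?_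
      rw [hinvB, ← add_smul, neg_add_cancel, zero_smul]
    exact (LinearMap.congr_fun (sub_eq_zero.mp key) w).symm
  have hQK : ∀ (q : Q) (w : W), (q : Module.End k W) w ∈ K := by
    rintro ⟨q, y, rfl⟩ w
    exact hWK y w
  have hCK : ∀ w, C w ∈ K := fun w => by
    simp only [C, LinearMap.sum_apply]
    exact sum_mem fun i _ => hQK _ _
  obtain ⟨c, hCm⟩ := schur C hC hCK hb
  rcases eq_or_ne c 0 with rfl | hc0
  · refine ⟨w₀, fun x => ?_, hw₀⟩
    have htr : LinearMap.trace k W C = (Module.finrank k Q : k) := by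
      simp only [C, map_sum]
      rw [Finset.sum_congr rfl fun i _ => (?_ : LinearMap.trace k W ((b' i : Module.End k W) * b i) = 1)]
      · simp
      · rw [← hB, LinearMap.BilinForm.apply_dualBasis_left, if_pos rfl]
    have hC0 : _root_.IsNilpotent C := ⟨2, LinearMap.ext fun w => by
      rw [pow_two, Module.End.mul_apply, hCm _ (hCK w), zero_smul]
      rfl⟩
    have h0 : (Module.finrank k Q : k) = 0 :=
      htr.symm.trans (LinearMap.isNilpotent_trace_of_isNilpotent hC0).eq_zero
    have hQ0 : Q = ⊥ := Submodule.finrank_eq_zero.mp (Nat.cast_eq_zero.mp h0)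
    have hmem : toEnd k L W x ∈ Q := ⟨x, rfl⟩
    rw [hQ0, Submodule.mem_bot] at hmem
    exact LinearMap.congr_fun hmem w₀
  · exact finish C hC hCK c hc0 hCm

/-- An invariant functional has an invariant section. -/
theorem exists_lift (hc : radical k L ≤ LieAlgebra.center k L) :
    ∀ (n : ℕ) {W : Type w} [AddCommGroup W] [Module k W] [LieRingModule L W] [LieModule k L W] [Module.Finite k W]
    (_ : Module.finrank k W ≤ n)
    (_ : ∀ z ∈ LieAlgebra.center k L, ∃ p : Polynomial k, Squarefree p ∧ Polynomial.aeval (toEnd k L W z) p = 0)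
    (f : W →ₗ[k] k) (_ : ∀ (x : L) (w : W), f ⁅x, w⁆ = 0) {w₀ : W} (_ : f w₀ = 1),
    ∃ w : W, (∀ x : L, ⁅x, w⁆ = 0) ∧ f w = 1 := by
  intro n
  induction n with
  | zero =>
    intro W _ _ _ _ _ hn _ f _ w₀ hw₀
    haveI : Subsingleton W := Module.finrank_zero_iff.mp (Nat.le_zero.mp hn)
    rw [Subsingleton.elim w₀ 0, map_zero] at hw₀
    exact absurd hw₀ zero_ne_one
  | succ n ih =>
    intro W _ _ _ _ _ hn hz f hinv w₀ hw₀
    let K : LieSubmodule k L W := { LinearMap.ker f with lie_mem := fun {x m} _ => hinv x m }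
    have hKf : ∀ w, w ∈ K ↔ f w = 0 := fun w => Iff.rfl
    by_cases hK : ∀ N : LieSubmodule k L W, N ≤ K → N ≠ ⊥ → N = K
    · exact exists_lift_irreducible hc hz f hinv hw₀ K hKf hK
    push Not at hK
    obtain ⟨P, hPK, hP0, hPne⟩ := hK
    have hdimK : Module.finrank k K.toSubmodule < Module.finrank k W := Submodule.finrank_lt fun h => by
      have : w₀ ∈ K.toSubmodule := h ▸ Submodule.mem_top
      rw [LieSubmodule.mem_toSubmodule, hKf, hw₀] at this
      exact one_ne_zero this
    have hdimP : Module.finrank k P.toSubmodule < Module.finrank k K.toSubmodule :=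
      Submodule.finrank_lt_finrank_of_lt (lt_of_le_of_ne hPK fun h => hPne (LieSubmodule.toSubmodule_injective h))
    -- the quotient
    let f' : (W ⧸ P) →ₗ[k] k := P.toSubmodule.liftQ f fun p hp => (hKf p).mp (hPK hp)
    have hdimQ : Module.finrank k (W ⧸ P) ≤ n := by
      have h1 := Submodule.finrank_quotient_add_finrank P.toSubmodule
      have h2 : 0 < Module.finrank k P.toSubmodule :=
        Nat.pos_of_ne_zero fun h => hP0 (LieSubmodule.toSubmodule_injective ((Submodule.finrank_eq_zero.mp h).trans LieSubmodule.bot_toSubmodule.symm))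
      change Module.finrank k (W ⧸ P.toSubmodule) ≤ n
      omega
    have hmk : ∀ (z : L) (p : Polynomial k) (w : W),
        Polynomial.aeval (toEnd k L (W ⧸ P) z) p (LieSubmodule.Quotient.mk w : W ⧸ P) =
          (LieSubmodule.Quotient.mk (Polynomial.aeval (toEnd k L W z) p w) : W ⧸ P) := fun z p w => by
      induction p using Polynomial.induction_on' with
      | add p q hp hq => simp only [map_add, LinearMap.add_apply, hp, hq]; rfl
      | monomial i c =>
        simp only [Polynomial.aeval_monomial, Module.algebraMap_end_apply, Module.End.mul_apply]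
        have : ((toEnd k L (W ⧸ P) z) ^ i) (LieSubmodule.Quotient.mk w : W ⧸ P) =
            (LieSubmodule.Quotient.mk (((toEnd k L W z) ^ i) w) : W ⧸ P) := by
          induction i with
          | zero => rfl
          | succ i ih => rw [pow_succ', Module.End.mul_apply, ih, pow_succ', Module.End.mul_apply]; rfl
        rw [this]
        rfl
    obtain ⟨q, hq, hq1⟩ := ih (W := W ⧸ P) hdimQ (fun z hz' => by
        obtain ⟨p, hp, hp0⟩ := hz z hz'
        refine ⟨p, hp, LinearMap.ext fun q => ?_⟩
        obtain ⟨w, rfl⟩ := Submodule.Quotient.mk_surjective _ q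
        exact (hmk z p w).trans (by rw [hp0]; rfl))
      f' (fun x q => by
        obtain ⟨w, rfl⟩ := Submodule.Quotient.mk_surjective _ q
        exact hinv x w)
      (w₀ := LieSubmodule.Quotient.mk w₀) hw₀
    obtain ⟨w₁, rfl⟩ := Submodule.Quotient.mk_surjective _ q
    have hw₁ : f w₁ = 1 := hq1
    have hxP : ∀ x : L, ⁅x, w₁⁆ ∈ P := fun x => (Submodule.Quotient.mk_eq_zero _).mp (hq x)
    let U : LieSubmodule k L W :=
      { P.toSubmodule ⊔ Submodule.span k {w₁} with
        lie_mem := fun {x m} hm => by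
          obtain ⟨p, hp, r, hr, rfl⟩ := Submodule.mem_sup.mp hm
          obtain ⟨c, rfl⟩ := Submodule.mem_span_singleton.mp hr
          refine Submodule.mem_sup_left ?_
          rw [lie_add, lie_smul]
          exact add_mem (P.lie_mem hp) (P.smul_mem c (hxP x)) }
    have hdimU : Module.finrank k U ≤ n := by
      have h1 := Submodule.finrank_sup_add_finrank_inf_eq P.toSubmodule (Submodule.span k {w₁})
      have h2 : Module.finrank k (Submodule.span k ({w₁} : Set W)) ≤ 1 := by
        simpa using finrank_span_le_card (R := k) ({w₁} : Set W)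
      change Module.finrank k ↥(P.toSubmodule ⊔ Submodule.span k {w₁}) ≤ n
      omega
    have hU : ∀ (z : L) (p : Polynomial k) (m : U),
        ((Polynomial.aeval (toEnd k L U z) p m : U) : W) = Polynomial.aeval (toEnd k L W z) p m := fun z p m => by
      induction p using Polynomial.induction_on' with
      | add p q hp hq => simp only [map_add, LinearMap.add_apply]; exact congrArg₂ (· + ·) hp hq
      | monomial i c =>
        simp only [Polynomial.aeval_monomial, Module.algebraMap_end_apply, Module.End.mul_apply]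
        have : (((toEnd k L U z) ^ i) m : W) = ((toEnd k L W z) ^ i) m := by
          induction i with
          | zero => rfl
          | succ i ih => rw [pow_succ', Module.End.mul_apply, pow_succ', Module.End.mul_apply, ← ih]; rfl
        rw [← this]
        rfl
    obtain ⟨w, hw, hw1⟩ := ih (W := U) hdimU (fun z hz' => by
        obtain ⟨p, hp, hp0⟩ := hz z hz'
        exact ⟨p, hp, LinearMap.ext fun m => Subtype.ext ((hU z p m).trans (by rw [hp0]; rfl))⟩)
      (f ∘ₗ U.toSubmodule.subtype) (fun x m => hinv x m)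
      (w₀ := ⟨w₁, Submodule.mem_sup_right (Submodule.mem_span_singleton_self w₁)⟩) hw₁
    exact ⟨w, fun x => congrArg Subtype.val (hw x), hw1⟩

end Groth.Agent.LieRed
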