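import Groth.Agent.Comodule.Stab
import Groth.Agent.Comodule.Unipotent
import Groth.Agent.Comodule.PrimUnip
import Groth.Agent.HopfPts.Sub
import Groth.Agent.HopfFF.Coinv
import Groth.Prelude.Def_SGA3

/-!
# The common kernel of the irreducible representations of an affine group

The irreducible representations are the quotients of adjacent subrepresentations of the regular representation.
Their common kernel is a normal unipotent subgroup.
-/

set_option autoImplicit false
set_option maxHeartbeats 1000000
set_option backward.isDefEq.respectTransparency false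
set_option backward.isDefEq.respectTransparency.types false

universe u

open TensorProduct WithConv

noncomputable section

namespace Groth.Agent.LieRed

open Groth.Agent.Comodule

variable {k : Type u} [Field k] {A : Type u} [CommRing A] [HopfAlgebra k A]

theorem apply_coefMap {V : Type u} [AddCommGroup V] [Module k V] [HopfRep.Comod k A V]
    (g : A →ₗ[k] k) (φ : V →ₗ[k] k) (v : V) : g (coefMap (C := A) φ v) = φ (dact (C := A) g v) := by
  rw [coefMap_apply, dact, LinearMap.comp_apply]
  generalize HopfRep.Comod.coact (k := k) (A := A) v = z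
  induction z with
  | zero => simp
  | add p q hp hq => simp only [map_add, hp, hq]
  | tmul p a => simp [mul_comm]

theorem coefMap_eq_zero_of_subcomod {V : Type u} [AddCommGroup V] [Module k V] [HopfRep.Comod k A V]
    {M : Submodule k V} (hM : HopfRep.IsSubcomod (k := k) (A := A) M) {φ : V →ₗ[k] k}
    (hφ : ∀ m ∈ M, φ m = 0) {m : V} (hm : m ∈ M) : coefMap (C := A) φ m = 0 := by
  obtain ⟨z, hz⟩ := hM m hm
  rw [coefMap_apply, ← hz]
  clear hz
  induction z with
  | zero => simp
  | add p q hp hq => simp only [map_add, hp, hq, add_zero]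
  | tmul p a => simp [hφ p.1 p.2]

theorem comul_coefMap {V : Type u} [AddCommGroup V] [Module k V] [HopfRep.Comod k A V]
    (φ : V →ₗ[k] k) (v : V) :
    Coalgebra.comul (R := k) (coefMap (C := A) φ v) =
      ((coefMap (C := A) φ).restrictScalars k).rTensor A (HopfRep.Comod.coact (k := k) (A := A) v) :=
  LinearMap.congr_fun (isComodHom_restrictScalars (coefMap (k := k) (C := A) (V := V) φ)) v

variable (k A) in
/-- Adjacent finite-dimensional subcomodules of the regular comodule. -/
structure IsCover (M W : Submodule k A) : Prop where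
  subM : HopfRep.IsSubcomod (k := k) (A := A) M
  subW : HopfRep.IsSubcomod (k := k) (A := A) W
  fin : Module.Finite k W
  lt : M < W
  adj : ∀ P : Submodule k A, HopfRep.IsSubcomod (k := k) (A := A) P → M ≤ P → P ≤ W → P = M ∨ P = W

/-- A basis of the quotient of adjacent subcomodules, lifted. -/
structure Frame (M W : Submodule k A) where
  n : ℕ
  vec : Fin n → A
  dual : Fin n → (A →ₗ[k] k)
  vec_mem : ∀ l, vec l ∈ W
  dual_mem : ∀ l, ∀ m ∈ M, dual l m = 0
  dual_vec : ∀ i j, dual i (vec j) = if i = j then 1 else 0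
  sub_mem : ∀ w ∈ W, w - ∑ l, dual l w • vec l ∈ M

theorem IsCover.nonempty_frame {M W : Submodule k A} (h : IsCover k A M W) : Nonempty (Frame M W) := by
  classical
  haveI := h.fin
  let M' : Submodule k W := M.comap W.subtype
  let e := Module.finBasis k (W ⧸ M')
  choose v hv using fun l => Submodule.mkQ_surjective M' (e l)
  choose ψ hψ using fun l => LinearMap.exists_extend (e.coord l ∘ₗ M'.mkQ)
  have hψ' : ∀ l (w : W), ψ l (w : A) = e.repr (M'.mkQ w) l := fun l w => LinearMap.congr_fun (hψ l) w
  refine ⟨⟨_, fun l => (v l : A), ψ, fun l => (v l).2, fun l m hm => ?_, fun i j => ?_, fun w hw => ?_⟩⟩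
  · have h0 : M'.mkQ ⟨m, h.lt.le hm⟩ = 0 := (Submodule.Quotient.mk_eq_zero M').mpr hm
    have := hψ' l ⟨m, h.lt.le hm⟩
    rw [h0, map_zero] at this
    exact this
  · rw [hψ', hv, Module.Basis.repr_self, Finsupp.single_apply]
    exact if_congr eq_comm rfl rfl
  · let d : W := ⟨w, hw⟩ - ∑ l, ψ l w • v l
    have hd : d ∈ M' := by
      rw [← Submodule.Quotient.mk_eq_zero M', ← Submodule.mkQ_apply, map_sub, map_sum, sub_eq_zero]
      simp only [map_smul, hv]
      conv_lhs => rw [← e.sum_repr (M'.mkQ ⟨w, hw⟩)]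
      exact Finset.sum_congr rfl fun l _ => by rw [← hψ']
    simpa [d, M', Submodule.coe_sum] using hd

namespace Frame

variable {M W : Submodule k A} (F : Frame M W)

theorem apply_eq {X : Type u} [AddCommGroup X] [Module k X] (G : A →ₗ[k] X) (hG : ∀ m ∈ M, G m = 0)
    {w : A} (hw : w ∈ W) : G w = ∑ l, F.dual l w • G (F.vec l) := by
  have h := hG _ (F.sub_mem w hw)
  rw [map_sub, sub_eq_zero, map_sum] at h
  simpa using h

theorem rTensor_eq {X : Type u} [AddCommGroup X] [Module k X] (G : A →ₗ[k] X) (hG : ∀ m ∈ M, G m = 0)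
    {z : A ⊗[k] A} (hz : z ∈ LinearMap.range (W.subtype.rTensor A)) :
    G.rTensor A z = ∑ l, G (F.vec l) ⊗ₜ[k] lcon (F.dual l) z := by
  obtain ⟨y, rfl⟩ := hz
  induction y with
  | zero => simp
  | add p q hp hq => simp only [map_add, hp, hq, TensorProduct.tmul_add, Finset.sum_add_distrib]
  | tmul p a =>
    simp only [LinearMap.rTensor_tmul, Submodule.subtype_apply, lcon_tmul]
    rw [F.apply_eq G hG p.2, TensorProduct.sum_tmul]
    exact Finset.sum_congr rfl fun l _ => by rw [TensorProduct.smul_tmul]

/-- The matrix of the representation on the quotient. -/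
def mat : Matrix (Fin F.n) (Fin F.n) A :=
  Matrix.of fun i j => coefMap (C := A) (F.dual i) (F.vec j)

theorem coefMap_eq (hc : IsCover k A M W) {φ : A →ₗ[k] k} (hφ : ∀ m ∈ M, φ m = 0) {w : A} (hw : w ∈ W) :
    coefMap (C := A) φ w = ∑ i, ∑ j, (φ (F.vec i) * F.dual j w) • F.mat i j := by
  have h1 : ∀ u ∈ W, coefMap (C := A) φ u = ∑ i, φ (F.vec i) • coefMap (C := A) (F.dual i) u := fun u hu => by
    rw [coefMap_apply]
    have h2 := F.rTensor_eq φ hφ (hc.subW u hu)
    have := congrArg (TensorProduct.lid k A) h2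
    rw [map_sum] at this
    simpa [lcon, coefMap_apply] using this
  rw [h1 w hw]
  refine Finset.sum_congr rfl fun i _ => ?_
  have h3 := F.apply_eq ((coefMap (C := A) (F.dual i)).restrictScalars k)
    (fun m hm => coefMap_eq_zero_of_subcomod hc.subM (F.dual_mem i) hm) hw
  simp only [LinearMap.coe_restrictScalars] at h3
  rw [h3, Finset.smul_sum]
  exact Finset.sum_congr rfl fun j _ => by rw [smul_smul]; rfl

theorem comul_mat (hc : IsCover k A M W) (i j : Fin F.n) :
    Coalgebra.comul (R := k) (F.mat i j) = ∑ l, F.mat i l ⊗ₜ[k] F.mat l j := by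
  show Coalgebra.comul (R := k) (coefMap (C := A) (F.dual i) (F.vec j)) = _
  rw [comul_coefMap, F.rTensor_eq _ (fun m hm => coefMap_eq_zero_of_subcomod hc.subM (F.dual_mem i) hm)
    (hc.subW _ (F.vec_mem j))]
  rfl

theorem counit_mat (i j : Fin F.n) : Coalgebra.counit (R := k) (F.mat i j) = if i = j then 1 else 0 :=
  (counit_coefMap (C := A) (F.dual i) (F.vec j)).trans (F.dual_vec i j)

theorem counit_sum {φ : A →ₗ[k] k} (hφ : ∀ m ∈ M, φ m = 0) {w : A} (hw : w ∈ W) :
    φ w = ∑ i, φ (F.vec i) * F.dual i w := by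
  rw [F.apply_eq φ hφ hw]
  exact Finset.sum_congr rfl fun i _ => by rw [smul_eq_mul, mul_comm]

theorem mat_mul_antipode (hc : IsCover k A M W) :
    (F.mat.map (HopfAlgebra.antipodeAlgHom k A)) * F.mat = 1 ∧
      F.mat * F.mat.map (HopfAlgebra.antipodeAlgHom k A) = 1 := by
  classical
  have h : (F.mat.map (HopfAlgebra.antipodeAlgHom k A)) * F.mat = 1 := by
    ext i j
    have h := HopfAlgebra.mul_antipode_rTensor_comul_apply (R := k) (F.mat i j)
    rw [F.comul_mat hc, F.counit_mat, map_sum, map_sum] at h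
    simp only [LinearMap.rTensor_tmul, LinearMap.mul'_apply] at h
    rw [Matrix.mul_apply, Matrix.one_apply]
    simp only [Matrix.map_apply]
    refine h.trans ?_
    split_ifs <;> simp
  exact ⟨h, mul_eq_one_comm.mp h⟩

/-- Values of an algebra homomorphism on the matrix. -/
theorem conv_mat (hc : IsCover k A M W) {R : Type u} [CommRing R] [Algebra k R] (g h : A →ₐ[k] R) :
    (F.mat.map (toConv g * toConv h).ofConv) = F.mat.map g * F.mat.map h := by
  ext i j
  rw [Matrix.mul_apply, Matrix.map_apply, AlgHom.convMul_apply, F.comul_mat hc]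
  simp [map_sum]

end Frame

variable (k A) in
/-- The generators of the common kernel. -/
def covGen : Set A :=
  {a | ∃ (M W : Submodule k A), IsCover k A M W ∧ ∃ (φ : A →ₗ[k] k) (w : A), w ∈ W ∧ (∀ m ∈ M, φ m = 0) ∧
    a = coefMap (C := A) φ w - algebraMap k A (φ w)}

variable (k A) in
/-- The common kernel of the irreducible representations. -/
def covIdeal : Ideal A := Ideal.span (covGen k A)

theorem mat_sub_mem {M W : Submodule k A} (hc : IsCover k A M W) (F : Frame M W) (i j : Fin F.n) :
    F.mat i j - (if i = j then 1 else 0) ∈ covIdeal k A := by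
  refine Ideal.subset_span ⟨M, W, hc, F.dual i, F.vec j, F.vec_mem j, F.dual_mem i, ?_⟩
  rw [F.dual_vec]
  congr 1
  split_ifs <;> simp

theorem map_mat_of_kills {M W : Submodule k A} (hc : IsCover k A M W) (F : Frame M W) {R : Type u} [CommRing R]
    [Algebra k R] {h : A →ₐ[k] R} (hh : ∀ a ∈ covIdeal k A, h a = 0) : F.mat.map h = 1 := by
  ext i j
  have := hh _ (mat_sub_mem hc F i j)
  rw [map_sub, sub_eq_zero] at this
  rw [Matrix.map_apply, this, Matrix.one_apply]
  split_ifs <;> simp

/-- An algebra homomorphism kills the common kernel if it is trivial on every matrix. -/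
theorem kills_of_map_mat {R : Type u} [CommRing R] [Algebra k R] {h : A →ₐ[k] R}
    (hh : ∀ (M W : Submodule k A), IsCover k A M W → ∀ F : Frame M W, F.mat.map h = 1) :
    ∀ a ∈ covIdeal k A, h a = 0 := by
  have hle : covIdeal k A ≤ RingHom.ker h := Ideal.span_le.mpr <| by
    rintro _ ⟨M, W, hc, φ, w, hw, hφ, rfl⟩
    obtain ⟨F⟩ := hc.nonempty_frame
    show h _ = 0
    rw [map_sub, F.coefMap_eq hc hφ hw, F.counit_sum hφ hw, AlgHom.commutes, sub_eq_zero]
    simp only [map_sum, map_smul]
    refine Finset.sum_congr rfl fun i _ => ?_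
    have hm : ∀ j, h (F.mat i j) = (1 : Matrix (Fin F.n) (Fin F.n) R) i j := fun j =>
      congrFun (congrFun (hh M W hc F) i) j
    simp only [hm, Matrix.one_apply, smul_ite, smul_zero, Finset.sum_ite_eq, Finset.mem_univ, if_true]
    rw [Algebra.algebraMap_eq_smul_one]
  exact fun a ha => hle ha

theorem kills_counit : ∀ a ∈ covIdeal k A, Bialgebra.counitAlgHom k A a = 0 :=
  kills_of_map_mat fun M W hc F => by
    ext i j
    rw [Matrix.map_apply, Matrix.one_apply]
    exact F.counit_mat i j

instance isHopfIdeal_covIdeal : (covIdeal k A).IsHopfIdeal k := by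
  let I := covIdeal k A
  let q : A →ₐ[k] A ⧸ I := Ideal.Quotient.mkₐ k I
  have hq : ∀ a ∈ I, q a = 0 := fun a ha => Ideal.Quotient.eq_zero_iff_mem.mpr ha
  refine @Ideal.IsHopfIdeal.mk k A _ _ _ I ⟨fun x hx => kills_counit x hx, fun x hx => ?_⟩ fun x hx => ?_
  · have hmk : (Submodule.restrictScalars k I).mkQ = q.toLinearMap := rfl
    rw [hmk]
    let Φ : A →ₐ[k] (A ⧸ I) ⊗[k] (A ⧸ I) := (Algebra.TensorProduct.map q q).comp (Bialgebra.comulAlgHom k A)
    suffices h : ∀ a ∈ I, Φ a = 0 from h x hx
    refine kills_of_map_mat fun M W hc F => ?_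
    ext i j
    have hm : ∀ l m, q (F.mat l m) = (1 : Matrix (Fin F.n) (Fin F.n) (A ⧸ I)) l m := fun l m =>
      congrFun (congrFun (map_mat_of_kills hc F hq) l) m
    show Algebra.TensorProduct.map q q (Coalgebra.comul (R := k) (F.mat i j)) = _
    rw [F.comul_mat hc, map_sum]
    simp only [Algebra.TensorProduct.map_tmul, hm, Matrix.one_apply]
    rw [Finset.sum_eq_single i]
    · rw [if_pos rfl]
      split_ifs <;> simp [Algebra.TensorProduct.one_def]
    · intro b _ hb
      rw [if_neg (Ne.symm hb), TensorProduct.zero_tmul]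
    · simp
  · have h : ∀ a ∈ I, (q.comp (HopfAlgebra.antipodeAlgHom k A)) a = 0 := by
      refine kills_of_map_mat fun M W hc F => ?_
      have h1 := congrArg (fun X : Matrix _ _ A => X.map q) (F.mat_mul_antipode hc).1
      simp only [Matrix.map_mul, Matrix.map_one _ (map_zero q) (map_one q), map_mat_of_kills hc F hq, mul_one] at h1
      exact h1
    exact Ideal.Quotient.eq_zero_iff_mem.mp (h x hx)

/-- The common kernel is normal. -/
theorem kills_conj {R : Type u} [CommRing R] [Algebra k R] (g g' h : A →ₐ[k] R)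
    (hg : toConv g * toConv g' = 1) (hh : ∀ a ∈ covIdeal k A, h a = 0) :
    ∀ a ∈ covIdeal k A, (toConv g * toConv h * toConv g').ofConv a = 0 := by
  refine kills_of_map_mat fun M W hc F => ?_
  have e1 : F.mat.map (1 : WithConv (A →ₐ[k] R)).ofConv = 1 := by
    ext i j
    rw [Matrix.map_apply, AlgHom.convOne_def, Matrix.one_apply]
    show algebraMap k R (Coalgebra.counit (R := k) (F.mat i j)) = _
    rw [F.counit_mat]
    split_ifs <;> simp
  have e2 := F.conv_mat hc (toConv g * toConv h).ofConv g'
  rw [WithConv.toConv_ofConv] at e2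
  rw [e2, F.conv_mat hc, map_mat_of_kills hc F hh, mul_one, ← F.conv_mat hc, hg, e1]

theorem exists_maximal_sub {W : Submodule k A} (hW : HopfRep.IsSubcomod (k := k) (A := A) W) [Module.Finite k W]
    (hne : W ≠ ⊥) : ∃ M, IsCover k A M W := by
  classical
  let P : ℕ → Prop := fun d => ∃ M : Submodule k A, HopfRep.IsSubcomod (k := k) (A := A) M ∧ M < W ∧
    Module.finrank k M = d
  have hex : ∃ d, d ≤ Module.finrank k W ∧ P d :=
    ⟨0, Nat.zero_le _, ⊥, isSubcomod_bot, bot_lt_iff_ne_bot.mpr hne, finrank_bot k A⟩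
  let d := Nat.findGreatest P (Module.finrank k W)
  obtain ⟨d₀, hd₀, hP₀⟩ := hex
  obtain ⟨M, hM, hlt, hdim⟩ : P d := Nat.findGreatest_spec hd₀ hP₀
  refine ⟨M, hM, hW, inferInstance, hlt, fun Q hQ hMQ hQW => ?_⟩
  rcases eq_or_lt_of_le hQW with h | h
  · exact Or.inr h
  · haveI : Module.Finite k Q := Submodule.finiteDimensional_of_le hQW
    have hle : Module.finrank k Q ≤ d := Nat.le_findGreatest (Submodule.finrank_mono hQW) ⟨Q, hQ, h, rfl⟩
    exact Or.inl (Submodule.eq_of_le_of_finrank_le hMQ (hdim ▸ hle)).symm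

theorem map_smul_quot (f : WithConv ((A ⧸ covIdeal k A) →ₗ[k] k)) (a : A) :
    f • (Ideal.Quotient.mkₐ k (covIdeal k A) a) =
      Ideal.Quotient.mkₐ k (covIdeal k A)
        ((toConv (f.ofConv ∘ₗ (Ideal.Quotient.mkₐ k (covIdeal k A)).toLinearMap)) • a) := by
  simp only [smul_def, dact, LinearMap.comp_apply, coact_regular]
  show rcon f.ofConv (Coalgebra.comul (R := k) (Ideal.Quotient.mk (covIdeal k A) a)) = _
  rw [Bialgebra.Quotient.comul_mk]
  generalize Coalgebra.comul (R := k) a = z
  induction z with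
  | zero => simp
  | add p r hp hr => simp only [map_add, hp, hr]
  | tmul p r =>
    simp only [TensorProduct.map_tmul, rcon_tmul, map_smul]
    rfl

/-- The common kernel is unipotent. -/
theorem isUnipotent_quot : HopfRep.IsUnipotent k (A ⧸ covIdeal k A) := by
  let q : A →ₐ[k] A ⧸ covIdeal k A := Ideal.Quotient.mkₐ k (covIdeal k A)
  have key : ∀ (d : ℕ) (W : Submodule k A), HopfRep.IsSubcomod (k := k) (A := A) W → Module.Finite k W →
      Module.finrank k W ≤ d → ∃ N, ∀ w ∈ W, q w ∈ fil k (A ⧸ covIdeal k A) (A ⧸ covIdeal k A) N := by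
    intro d
    induction d with
    | zero =>
      intro W _ hfin hd
      refine ⟨0, fun w hw => ?_⟩
      rw [Submodule.finrank_eq_zero.mp (Nat.le_zero.mp hd), Submodule.mem_bot] at hw
      rw [hw, map_zero]
      exact Submodule.zero_mem _
    | succ d ih =>
      intro W hW hfin hd
      rcases eq_or_ne W ⊥ with rfl | hne
      · exact ⟨0, fun w hw => by rw [(Submodule.mem_bot k).mp hw, map_zero]; exact Submodule.zero_mem _⟩
      obtain ⟨M, hc⟩ := exists_maximal_sub hW hne
      obtain ⟨F⟩ := hc.nonempty_frame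
      haveI : Module.Finite k M := Submodule.finiteDimensional_of_le hc.lt.le
      obtain ⟨N, hN⟩ := ih M hc.subM inferInstance
        (Nat.le_of_lt_succ ((Submodule.finrank_lt_finrank_of_lt hc.lt).trans_le hd))
      refine ⟨N + 1, fun w hw => mem_fil_succ.mpr fun f hf => ?_⟩
      let g : WithConv (A →ₗ[k] k) := toConv (f.ofConv ∘ₗ q.toLinearMap)
      have hgw : g • w ∈ M := by
        have hmem : g • w ∈ W := isSubcomod_iff.mp hW g w hw
        have h0 : ∀ l, F.dual l (g • w) = 0 := fun l => by
          rw [smul_def, ← apply_coefMap]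
          show f.ofConv (q (coefMap (C := A) (F.dual l) w)) = 0
          have h1 : coefMap (C := A) (F.dual l) w - algebraMap k A (F.dual l w) ∈ covIdeal k A :=
            Ideal.subset_span ⟨M, W, hc, F.dual l, w, hw, F.dual_mem l, rfl⟩
          have h2 : q (coefMap (C := A) (F.dual l) w) = algebraMap k _ (F.dual l w) := by
            rw [← q.commutes, ← sub_eq_zero, ← map_sub]
            exact Ideal.Quotient.eq_zero_iff_mem.mpr h1
          rw [h2, Algebra.algebraMap_eq_smul_one, map_smul, hf, smul_zero]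
        have := F.sub_mem _ hmem
        simpa [h0] using this
      rw [map_smul_quot]
      exact hN _ hgw
  refine isUnipotent_iff_fil.mpr fun x => ?_
  obtain ⟨a, rfl⟩ := Ideal.Quotient.mk_surjective x
  obtain ⟨N, hN⟩ := key _ _ (isSubcomod_restrictScalars (Submodule.span (WithConv (A →ₗ[k] k)) ({a} : Set A)))
    (finite_span_singleton a) le_rfl
  exact ⟨N, hN a (Submodule.mem_span_singleton_self a)⟩

end Groth.Agent.LieRed
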