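import Groth.Agent.LieRedLib.Abstract
import Groth.Agent.LieRedLib.Cover
import Groth.Agent.UnipSubtorus.Main
import Groth.Agent.S16709

/-!
# Groups with jointly faithful irreducible representations are linearly reductive in characteristic zero
-/

set_option autoImplicit false
set_option maxHeartbeats 1000000
set_option linter.style.haveILetI false
set_option backward.isDefEq.respectTransparency false
set_option backward.isDefEq.respectTransparency.types false

universe u

open TensorProduct WithConv

noncomputable section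

namespace Groth.Agent.LieRed

open Groth.Agent.Comodule

attribute [local instance 100] LieRing.ofAssociativeRing

variable {k : Type u} [Field k] {A : Type u} [CommRing A] [HopfAlgebra k A]

variable (k A) in
/-- The Lie algebra inside the dual algebra. -/
def lieAlg : LieSubalgebra k (WithConv (A →ₗ[k] k)) where
  carrier := Set.range fun D : LieHopf.Lie k A => toConv (LieHopf.dlin D)
  zero_mem' := ⟨0, rfl⟩
  add_mem' := by rintro _ _ ⟨D, rfl⟩ ⟨E, rfl⟩; exact ⟨D + E, rfl⟩
  smul_mem' := by rintro c _ ⟨D, rfl⟩; exact ⟨c • D, rfl⟩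
  lie_mem' := by
    rintro _ _ ⟨D, rfl⟩ ⟨E, rfl⟩
    exact ⟨UnipSubtorus.bracketDer D E, (UnipSubtorus.toConv_bracketDer D E).trans (Ring.lie_def _ _).symm⟩

instance lieRingModule {V : Type u} [AddCommGroup V] [Module k V] [HopfRep.Comod k A V] :
    LieRingModule (lieAlg k A) V where
  bracket x v := (x : WithConv (A →ₗ[k] k)) • v
  add_lie x y v := add_smul (x : WithConv (A →ₗ[k] k)) (y : WithConv (A →ₗ[k] k)) v
  lie_add x v w := smul_add (x : WithConv (A →ₗ[k] k)) v w
  leibniz_lie x y v := by
    show (x : WithConv (A →ₗ[k] k)) • (y : WithConv (A →ₗ[k] k)) • v =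
      (⁅x, y⁆ : lieAlg k A).1 • v + (y : WithConv (A →ₗ[k] k)) • (x : WithConv (A →ₗ[k] k)) • v
    rw [LieSubalgebra.coe_bracket, Ring.lie_def, sub_smul, mul_smul, mul_smul, sub_add_cancel]

instance lieModule {V : Type u} [AddCommGroup V] [Module k V] [HopfRep.Comod k A V] :
    LieModule k (lieAlg k A) V where
  smul_lie c x v := smul_assoc c (x : WithConv (A →ₗ[k] k)) v
  lie_smul c x v := smul_comm (x : WithConv (A →ₗ[k] k)) c v

theorem lie_def {V : Type u} [AddCommGroup V] [Module k V] [HopfRep.Comod k A V] (x : lieAlg k A) (v : V) :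
    ⁅x, v⁆ = (x : WithConv (A →ₗ[k] k)) • v := rfl

/-- The element of a derivation. -/
def lieElt (D : LieHopf.Lie k A) : lieAlg k A := ⟨toConv (LieHopf.dlin D), D, rfl⟩

instance finite_lieAlg [Algebra.FiniteType k A] : Module.Finite k (lieAlg k A) := by
  obtain ⟨s, hs⟩ := Algebra.FiniteType.out (R := k) (A := A)
  let f : lieAlg k A →ₗ[k] (s → k) :=
    { toFun := fun x a => (x : WithConv (A →ₗ[k] k)).ofConv a
      map_add' := fun _ _ => rfl
      map_smul' := fun _ _ => rfl }
  refine Module.Finite.of_injective f ?_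
  rintro ⟨_, D, rfl⟩ ⟨_, E, rfl⟩ h
  have hDE : D = E := Derivation.ext_of_adjoin_eq_top (s : Set A) hs fun a ha => congrFun h ⟨a, ha⟩
  exact Subtype.ext (by rw [hDE])

/-- The action of a derivation on the coordinate ring is a derivation. -/
theorem smul_mul (D : LieHopf.Lie k A) (a b : A) :
    (toConv (LieHopf.dlin D)) • (a * b) =
      ((toConv (LieHopf.dlin D)) • a) * b + a * ((toConv (LieHopf.dlin D)) • b) := by
  have key : ∀ y z : A ⊗[k] A, rcon (LieHopf.dlin D) (y * z) =
      rcon (LieHopf.dlin D) y * rcon (Coalgebra.counit (R := k)) z +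
        rcon (Coalgebra.counit (R := k)) y * rcon (LieHopf.dlin D) z := by
    intro y z
    induction y with
    | zero => simp
    | add p q hp hq => simp only [add_mul, map_add, hp, hq]; ring
    | tmul p q =>
      induction z with
      | zero => simp
      | add r s hr hs => simp only [mul_add, map_add, hr, hs]; ring
      | tmul r s =>
        simp only [Algebra.TensorProduct.tmul_mul_tmul, rcon_tmul, LieHopf.dlin_mul, Bialgebra.counitAlgHom_apply,
          smul_mul_smul_comm, add_smul]
        rw [mul_comm (Coalgebra.counit (R := k) s) (LieHopf.dlin D q)]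
        abel
  have h1 : ∀ c : A, rcon (Coalgebra.counit (R := k)) (Coalgebra.comul (R := k) c) = c := fun c => by
    simp [rcon, Coalgebra.lTensor_counit_comul]
  simp only [smul_def, dact, LinearMap.comp_apply, coact_regular]
  rw [Bialgebra.comul_mul, key, h1, h1]

section Stab

variable [IsAlgClosed k] [CharZero k] [Algebra.FiniteType k A]

/-- A subspace stable under the Lie algebra is a subcomodule. -/
theorem isSubcomod_of_lie {V : Type u} [AddCommGroup V] [Module k V] [HopfRep.Comod k A V] [Module.Finite k V]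
    (hconn : ∀ e : A, IsIdempotentElem e → e = 0 ∨ e = 1) (P : Submodule k V)
    (h : ∀ (D : LieHopf.Lie k A), ∀ w ∈ P, (toConv (LieHopf.dlin D)) • w ∈ P) :
    HopfRep.IsSubcomod (k := k) (A := A) P := by
  obtain ⟨J, hJ, hrep⟩ := exists_stab_ideal (A := A) P
  haveI := hJ
  haveI : Algebra.FiniteType k (A ⧸ J) :=
    Algebra.FiniteType.of_surjective (Ideal.Quotient.mkₐ k J) (Ideal.Quotient.mkₐ_surjective _ _)
  haveI : _root_.IsReduced (A ⧸ J) := HopfGr.isReduced_charZero (k := k)
  haveI : Algebra.FormallySmooth k (A ⧸ J) := by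
    haveI : Algebra.FormallySmooth k ((A ⧸ J) ⧸ nilradical (A ⧸ J)) := HopfGr.formallySmooth_reduced (k := k)
    exact Algebra.FormallySmooth.of_equiv
      ((Ideal.quotientEquivAlgOfEq k (nilradical_eq_zero (A ⧸ J))).trans (AlgEquiv.quotientBot k (A ⧸ J)))
  have hbot : J = ⊥ := Groth.Agent.S7985.result k A hconn J fun D a ha => by
    have hε : (DualNumber.eps : DualNumber k) * DualNumber.eps = 0 := DualNumber.eps_mul_eps
    let g := LieHopf.ptOfLie D (DualNumber k) DualNumber.eps hε
    have hP : ∀ w ∈ P, LinearMap.lTensor V g.toLinearMap (HopfRep.Comod.coact (k := k) (A := A) w) ∈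
        LinearMap.range (P.subtype.rTensor (DualNumber k)) := by
      intro w hw
      have key : ∀ z : V ⊗[k] A, LinearMap.lTensor V g.toLinearMap z =
          rcon (Coalgebra.counit (R := k)) z ⊗ₜ[k] (1 : DualNumber k) +
            rcon (LieHopf.dlin D) z ⊗ₜ[k] (DualNumber.eps : DualNumber k) := by
        intro z
        induction z with
        | zero => simp
        | add p q hp hq => simp only [map_add, hp, hq, TensorProduct.add_tmul]; abel
        | tmul p q =>
          simp only [LinearMap.lTensor_tmul, rcon_tmul, TensorProduct.smul_tmul, ← TensorProduct.tmul_add]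
          congr 1
          show algebraMap k (DualNumber k) _ + algebraMap k (DualNumber k) _ * _ = _
          rw [← Algebra.smul_def, Algebra.algebraMap_eq_smul_one]
          rfl
      rw [key]
      have h1 : rcon (Coalgebra.counit (R := k)) (HopfRep.Comod.coact (k := k) (A := A) w) = w := by
        have := dact_one (k := k) (C := A) w
        rw [dact, LinearMap.comp_apply] at this
        convert this using 3
        ext c
        simp [LinearMap.convOne_def]
      rw [h1]
      exact ⟨(⟨w, hw⟩ : P) ⊗ₜ[k] 1 + (⟨_, h D w hw⟩ : P) ⊗ₜ[k] DualNumber.eps, by simp; rfl⟩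
    have h2 := congrArg TrivSqZeroExt.snd ((hrep (DualNumber k) g).mpr hP a ha)
    change TrivSqZeroExt.snd (algebraMap k (DualNumber k) (Bialgebra.counitAlgHom k A a) +
      algebraMap k (DualNumber k) (LieHopf.dlin D a) * DualNumber.eps) = _ at h2
    have h3 : LieHopf.dlin D a = 0 := by simpa [TrivSqZeroExt.algebraMap_eq_inl] using h2
    exact h3
  intro w hw
  have h3 := (hrep A (AlgHom.id k A)).mp (fun a ha => by
    rw [hbot, Submodule.mem_bot] at ha
    rw [ha, map_zero]) w hw
  simpa using h3

/-- A subspace of the coordinate ring stable under the Lie algebra, inside a finite subcomodule. -/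
theorem isSubcomod_of_lie_le (hconn : ∀ e : A, IsIdempotentElem e → e = 0 ∨ e = 1) {P W : Submodule k A}
    (hW : HopfRep.IsSubcomod (k := k) (A := A) W) [Module.Finite k W] (hPW : P ≤ W)
    (h : ∀ (D : LieHopf.Lie k A), ∀ w ∈ P, (toConv (LieHopf.dlin D)) • w ∈ P) :
    HopfRep.IsSubcomod (k := k) (A := A) P := by
  letI := subComod W hW
  have hsub : ∀ (f : WithConv (A →ₗ[k] k)) (x : W), ((f • x : W) : A) = f • (x : A) :=
    isComodHom_iff.mp (isComodHom_subtype W hW)
  have h' := isSubcomod_of_lie (A := A) hconn (P.comap W.subtype) fun D w hw => by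
    show ((toConv (LieHopf.dlin D) • w : W) : A) ∈ P
    rw [hsub]
    exact h D _ hw
  refine isSubcomod_iff.mpr fun f v hv => ?_
  have := isSubcomod_iff.mp h' f ⟨v, hPW hv⟩ hv
  change ((f • (⟨v, hPW hv⟩ : W) : W) : A) ∈ P at this
  rwa [hsub] at this

/-- A subcomodule of the coordinate ring as a Lie submodule. -/
def subLie (W : Submodule k A) (hW : HopfRep.IsSubcomod (k := k) (A := A) W) : LieSubmodule k (lieAlg k A) A :=
  { W with lie_mem := fun {x _} hm => isSubcomod_iff.mp hW (x : WithConv (A →ₗ[k] k)) _ hm }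

variable (k A) in
/-- Adjacent pairs. -/
abbrev Cov : Type u := {p : Submodule k A × Submodule k A // IsCover k A p.1 p.2}

/-- The Lie module of an adjacent pair. -/
abbrev covMod (i : Cov k A) : Type u :=
  (subLie i.1.2 i.2.subW : LieSubmodule k (lieAlg k A) A) ⧸
    (subLie i.1.1 i.2.subM).comap (subLie i.1.2 i.2.subW).incl

instance covMod_finite (i : Cov k A) : Module.Finite k (covMod i) := by
  haveI : Module.Finite k (subLie i.1.2 i.2.subW : LieSubmodule k (lieAlg k A) A) := i.2.fin
  exact Module.Finite.of_surjective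
    ((subLie i.1.1 i.2.subM).comap (subLie i.1.2 i.2.subW).incl).toSubmodule.mkQ (Submodule.mkQ_surjective _)

theorem covMod_irreducible (hconn : ∀ e : A, IsIdempotentElem e → e = 0 ∨ e = 1) (i : Cov k A) :
    LieModule.IsIrreducible k (lieAlg k A) (covMod i) := by
  obtain ⟨⟨M, W⟩, hc⟩ := i
  haveI := hc.fin
  let U : LieSubmodule k (lieAlg k A) A := subLie W hc.subW
  let U' : LieSubmodule k (lieAlg k A) U := (subLie M hc.subM).comap U.incl
  haveI : Nontrivial (covMod (⟨(M, W), hc⟩ : Cov k A)) := by
    obtain ⟨w, hw, hw'⟩ := SetLike.exists_of_lt hc.lt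
    refine nontrivial_of_ne (LieSubmodule.Quotient.mk (⟨w, hw⟩ : U)) 0 fun h => hw' ?_
    exact (Submodule.Quotient.mk_eq_zero U'.toSubmodule).mp h
  refine LieModule.IsIrreducible.mk fun N hN => ?_
  let P : LieSubmodule k (lieAlg k A) A := (N.comap (LieSubmodule.Quotient.mk' U')).map U.incl
  have hP : ∀ (w : A) (hw : w ∈ W), w ∈ P ↔ (LieSubmodule.Quotient.mk (⟨w, hw⟩ : U) : U ⧸ U') ∈ N := by
    intro w hw
    constructor
    · rintro ⟨⟨v, hv⟩, hvN, hvw⟩
      obtain rfl : v = w := hvw
      exact hvN
    · exact fun h => ⟨⟨w, hw⟩, h, rfl⟩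
  have hPW : P.toSubmodule ≤ W := by
    rintro _ ⟨⟨v, hv⟩, _, rfl⟩
    exact hv
  have hMP : M ≤ P.toSubmodule := fun m hm => (hP m (hc.lt.le hm)).mpr <| by
    have : (LieSubmodule.Quotient.mk (⟨m, hc.lt.le hm⟩ : U) : U ⧸ U') = 0 :=
      (Submodule.Quotient.mk_eq_zero _).mpr hm
    rw [this]
    exact N.zero_mem
  rcases hc.adj P.toSubmodule
      (isSubcomod_of_lie_le hconn hc.subW hPW fun D w hw => P.lie_mem (x := lieElt D) hw) hMP hPW with h | h
  · refine absurd ((LieSubmodule.eq_bot_iff N).mpr fun q hq => ?_) hN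
    obtain ⟨⟨w, hw⟩, rfl⟩ := Submodule.Quotient.mk_surjective _ q
    have : w ∈ P.toSubmodule := (hP w hw).mpr hq
    rw [h] at this
    exact (Submodule.Quotient.mk_eq_zero _).mpr this
  · refine eq_top_iff.mpr fun q _ => ?_
    obtain ⟨⟨w, hw⟩, rfl⟩ := Submodule.Quotient.mk_surjective _ q
    exact (hP w hw).mp (h.symm ▸ hw : w ∈ P.toSubmodule)

theorem covMod_faithful (haug : ∀ a : A, Coalgebra.counit (R := k) a = 0 → a ∈ covIdeal k A) (x : lieAlg k A)
    (hx : ∀ (i : Cov k A) (m : covMod i), ⁅x, m⁆ = 0) : x = 0 := by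
  obtain ⟨_, D, rfl⟩ := x
  have h1 : ∀ a ∈ covIdeal k A, LieHopf.dlin D a = 0 ∧ Bialgebra.counitAlgHom k A a = 0 := by
    intro a ha
    refine ⟨?_, kills_counit a ha⟩
    induction ha using Submodule.span_induction with
    | mem y hy =>
      obtain ⟨M, W, hc, φ, w, hw, hφ, rfl⟩ := hy
      rw [map_sub, LieHopf.dlin_algebraMap, sub_zero, apply_coefMap]
      refine hφ _ ?_
      have h := hx ⟨(M, W), hc⟩ (LieSubmodule.Quotient.mk ⟨w, hw⟩)
      exact (Submodule.Quotient.mk_eq_zero
        ((subLie M hc.subM).comap (subLie W hc.subW).incl).toSubmodule).mp h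
    | zero => exact map_zero _
    | add y z _ _ hy hz => rw [map_add, hy, hz, add_zero]
    | smul r y hy hy' =>
      rw [smul_eq_mul, LieHopf.dlin_mul, hy', kills_counit y hy]
      ring
  refine Subtype.ext ?_
  show toConv (LieHopf.dlin D) = 0
  have h2 : LieHopf.dlin D = 0 := LinearMap.ext fun a => by
    have h3 := (h1 _ (haug (a - algebraMap k A (Coalgebra.counit (R := k) a)) (by simp))).1
    rwa [map_sub, LieHopf.dlin_algebraMap, sub_zero] at h3
  rw [h2]
  rfl

/-- Central elements act diagonalisably on the coordinate ring. -/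
theorem iSup_eigenspace_center (hconn : ∀ e : A, IsIdempotentElem e → e = 0 ∨ e = 1)
    (haug : ∀ a : A, Coalgebra.counit (R := k) a = 0 → a ∈ covIdeal k A)
    {D : LieHopf.Lie k A} (hD : lieElt D ∈ LieAlgebra.center k (lieAlg k A)) (a : A) :
    a ∈ ⨆ c, Module.End.eigenspace (dact (C := A) (V := A) (LieHopf.dlin D) : Module.End k A) c := by
  classical
  let T : Module.End k A := dact (C := A) (V := A) (LieHopf.dlin D)
  have hT : ∀ x : A, T x = (toConv (LieHopf.dlin D)) • x := fun x => rfl
  let E : Submodule k A := ⨆ c, T.eigenspace c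
  have hone : (1 : A) ∈ E := by
    refine Submodule.mem_iSup_of_mem 0 (Module.End.mem_eigenspace_iff.mpr ?_)
    have h := smul_mul D (1 : A) 1
    simp only [one_mul, mul_one, left_eq_add] at h
    rw [hT, h, zero_smul]
  have hmul : ∀ x y, x ∈ E → y ∈ E → x * y ∈ E := by
    intro x y hx hy
    refine Submodule.iSup_induction _ (motive := fun z => z * y ∈ E) hx (fun c z hz => ?_)
      (by simp) (fun p q hp hq => by rw [add_mul]; exact add_mem hp hq)
    refine Submodule.iSup_induction _ (motive := fun v => z * v ∈ E) hy (fun d v hv => ?_)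
      (by simp) (fun p q hp hq => by rw [mul_add]; exact add_mem hp hq)
    refine Submodule.mem_iSup_of_mem (c + d) (Module.End.mem_eigenspace_iff.mpr ?_)
    have hz' := Module.End.mem_eigenspace_iff.mp hz
    have hv' := Module.End.mem_eigenspace_iff.mp hv
    rw [hT] at hz' hv' ⊢
    rw [smul_mul, hz', hv', smul_mul_assoc, mul_smul_comm, add_smul]
  let Eal : Subalgebra k A :=
    { carrier := E
      mul_mem' := fun {p q} hp hq => hmul p q hp hq
      one_mem' := hone
      add_mem' := fun hp hq => add_mem hp hq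
      zero_mem' := zero_mem E
      algebraMap_mem' := fun r => by rw [Algebra.algebraMap_eq_smul_one]; exact E.smul_mem r hone }
  -- the generators
  let G : Set A := {a | ∃ (M W : Submodule k A) (_ : IsCover k A M W) (F : Frame M W) (i j : Fin F.n),
    a = F.mat i j ∨ a = HopfAlgebra.antipode k (F.mat i j)}
  let B : Subalgebra k A := Algebra.adjoin k G
  have hG : G ⊆ Eal := by
    rintro b ⟨M, W, hc, F, i, j, hb⟩
    -- the scalar on the quotient
    obtain ⟨c, hcW⟩ : ∃ c : k, ∀ w ∈ W, T w - c • w ∈ M := by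
      let q : Cov k A := ⟨(M, W), hc⟩
      haveI := covMod_irreducible hconn q
      haveI := LieModule.nontrivial_of_isIrreducible k (lieAlg k A) (covMod q)
      let C : Module.End k (covMod q) := LieModule.toEnd k (lieAlg k A) (covMod q) (lieElt D)
      haveI : FiniteDimensional k (covMod q) := covMod_finite q
      obtain ⟨c, hcC⟩ := Module.End.exists_eigenvalue C
      let N : LieSubmodule k (lieAlg k A) (covMod q) :=
        { C.eigenspace c with
          lie_mem := fun {z m} hm => Module.End.mem_eigenspace_iff.mpr <| by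
            have hm' : ⁅lieElt D, m⁆ = c • m := Module.End.mem_eigenspace_iff.mp hm
            show ⁅lieElt D, ⁅z, m⁆⁆ = c • ⁅z, m⁆
            rw [leibniz_lie, ← lie_skew, (LieModule.mem_maxTrivSubmodule k _ _ _).mp hD z, neg_zero, zero_lie, zero_add,
              hm', lie_smul] }
      obtain ⟨m, hm⟩ := hcC.exists_hasEigenvector
      haveI : Nontrivial N := nontrivial_of_ne ⟨m, hm.1⟩ 0 fun h => hm.2 (congrArg Subtype.val h)
      have hN : N = ⊤ := N.eq_top_of_isIrreducible k (lieAlg k A) (covMod q)
      refine ⟨c, fun w hw => ?_⟩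
      have h : (LieSubmodule.Quotient.mk (⟨w, hw⟩ : (subLie W hc.subW : LieSubmodule k (lieAlg k A) A)) : covMod q) ∈ N :=
        hN ▸ LieSubmodule.mem_top _
      exact (Submodule.Quotient.eq
        ((subLie M hc.subM).comap (subLie W hc.subW).incl).toSubmodule).mp (Module.End.mem_eigenspace_iff.mp h)
    have hmat : ∀ i j, T (F.mat i j) = c • F.mat i j := fun i j => by
      show (toConv (LieHopf.dlin D)) • coefMap (C := A) (F.dual i) (F.vec j) = c • coefMap (C := A) (F.dual i) (F.vec j)
      rw [← map_smul]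
      have h := coefMap_eq_zero_of_subcomod hc.subM (F.dual_mem i) (hcW _ (F.vec_mem j))
      rw [hT, map_sub, sub_eq_zero] at h
      rw [h]
      exact ((coefMap (C := A) (F.dual i)).restrictScalars k).map_smul c (F.vec j)
    refine Submodule.mem_iSup_of_mem (p := fun c => T.eigenspace c) ?_ ?_
    · exact if b = F.mat i j then c else -c
    rw [Module.End.mem_eigenspace_iff]
    split_ifs with hbi
    · rw [hbi, hmat]
    obtain rfl := hb.resolve_left hbi
    let S := F.mat.map (HopfAlgebra.antipodeAlgHom k A)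
    obtain ⟨hSM, hMS⟩ := F.mat_mul_antipode hc
    have hS : S.map T * F.mat = (-c) • (1 : Matrix (Fin F.n) (Fin F.n) A) := by
      ext a b
      have h := congrArg T (congrFun (congrFun hSM a) b)
      rw [Matrix.mul_apply, map_sum] at h
      simp only [hT, smul_mul] at h
      have h0 : (toConv (LieHopf.dlin D)) • ((1 : Matrix (Fin F.n) (Fin F.n) A) a b) = 0 := by
        rw [Matrix.one_apply]
        split_ifs
        · have := smul_mul D (1 : A) 1
          simpa only [one_mul, mul_one, left_eq_add] using this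
        · exact smul_zero _
      rw [h0, Finset.sum_add_distrib] at h
      have h2 : ∑ l, S a l * ((toConv (LieHopf.dlin D)) • F.mat l b) = c • (1 : Matrix (Fin F.n) (Fin F.n) A) a b := by
        simp only [← hT, hmat, mul_smul_comm, ← Finset.smul_sum]
        rw [← Matrix.mul_apply, hSM]
      rw [h2] at h
      rw [Matrix.mul_apply, Matrix.smul_apply, neg_smul]
      exact eq_neg_of_add_eq_zero_left h
    have := congrArg (· * S) hS
    rw [mul_assoc, show F.mat * S = 1 from hMS, mul_one, smul_mul_assoc, one_mul] at this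
    exact congrFun (congrFun this i) j
  have hB : HopfFF.IsHopfSub (k := k) (A := A) B := by
    let m := Algebra.TensorProduct.map B.val B.val
    have hle : B ≤ m.range.comap (Bialgebra.comulAlgHom k A) ⊓ B.comap (HopfAlgebra.antipodeAlgHom k A) := by
      refine Algebra.adjoin_le ?_
      rintro b ⟨M, W, hc, F, i, j, hb⟩
      have h0 := HopfPts.isHopf_adjoin_mat F.mat (F.comul_mat hc) F.counit_mat
      let B' : Subalgebra k A := Algebra.adjoin k (Set.range (fun q : Fin F.n × Fin F.n => F.mat q.1 q.2) ∪
        Set.range fun q : Fin F.n × Fin F.n => HopfAlgebra.antipode k (F.mat q.1 q.2))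
      have hB' : B' ≤ B := Algebra.adjoin_mono <| by
        rintro _ (⟨q, rfl⟩ | ⟨q, rfl⟩)
        · exact ⟨M, W, hc, F, q.1, q.2, Or.inl rfl⟩
        · exact ⟨M, W, hc, F, q.1, q.2, Or.inr rfl⟩
      have hbB : b ∈ B' := Algebra.subset_adjoin <| by
        rcases hb with rfl | rfl
        · exact Or.inl ⟨(i, j), rfl⟩
        · exact Or.inr ⟨(i, j), rfl⟩
      refine ⟨?_, hB' (h0.2 b hbB)⟩
      obtain ⟨z, hz⟩ := h0.1 b hbB
      refine ⟨Algebra.TensorProduct.map (Subalgebra.inclusion hB') (Subalgebra.inclusion hB') z, ?_⟩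
      refine Eq.trans ?_ hz
      clear hz
      induction z with
      | zero => simp
      | add p q hp hq => simp only [map_add] at hp hq ⊢; rw [hp, hq]
      | tmul p q => rfl
    exact ⟨fun b hb => (hle hb).1, fun b hb => (hle hb).2⟩
  have haB : a ∈ B := by
    refine HopfFF.mem_of_right_coinv hB (I := covIdeal k A) ?_ ?_
    · refine Ideal.span_mono ?_
      rintro _ ⟨M, W, hc, φ, w, hw, hφ, rfl⟩
      obtain ⟨F⟩ := hc.nonempty_frame
      refine ⟨sub_mem ?_ (B.algebraMap_mem _), kills_counit _ (Ideal.subset_span ⟨M, W, hc, φ, w, hw, hφ, rfl⟩)⟩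
      rw [F.coefMap_eq hc hφ hw]
      exact sum_mem fun i _ => sum_mem fun j _ =>
        B.smul_mem (Algebra.subset_adjoin ⟨M, W, hc, F, i, j, Or.inl rfl⟩) _
    · have hq : (Ideal.Quotient.mkₐ k (covIdeal k A)).toLinearMap =
          (Algebra.linearMap k (A ⧸ covIdeal k A)) ∘ₗ Coalgebra.counit (R := k) (A := A) := LinearMap.ext fun b => by
        have := Ideal.Quotient.eq_zero_iff_mem.mpr (haug (b - algebraMap k A (Coalgebra.counit (R := k) b)) (by simp))
        rw [map_sub, sub_eq_zero] at this
        exact this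
      rw [hq, LinearMap.lTensor_comp, LinearMap.comp_apply, Coalgebra.lTensor_counit_comul, LinearMap.lTensor_tmul]
      simp
  exact (Algebra.adjoin_le (S := Eal) hG : B ≤ Eal) haB

theorem aeval_toEnd {V : Type u} [AddCommGroup V] [Module k V] [HopfRep.Comod k A V] (x : lieAlg k A)
    (p : Polynomial k) (v : V) :
    Polynomial.aeval (LieModule.toEnd k (lieAlg k A) V x) p v =
      Polynomial.aeval (x : WithConv (A →ₗ[k] k)) p • v := by
  induction p using Polynomial.induction_on' with
  | add p q hp hq => simp only [map_add, LinearMap.add_apply, add_smul, hp, hq]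
  | monomial i c =>
    simp only [Polynomial.aeval_monomial, Module.algebraMap_end_apply, Module.End.mul_apply]
    have h : ((LieModule.toEnd k (lieAlg k A) V x) ^ i) v = (x : WithConv (A →ₗ[k] k)) ^ i • v := by
      induction i with
      | zero => rw [pow_zero, pow_zero, one_smul]; rfl
      | succ i ih => rw [pow_succ', pow_succ', Module.End.mul_apply, mul_smul, ih]; rfl
    rw [h, Algebra.algebraMap_eq_smul_one, smul_one_mul, smul_assoc]

theorem exists_squarefree (hconn : ∀ e : A, IsIdempotentElem e → e = 0 ∨ e = 1)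
    (haug : ∀ a : A, Coalgebra.counit (R := k) a = 0 → a ∈ covIdeal k A)
    {V : Type u} [AddCommGroup V] [Module k V] [HopfRep.Comod k A V] [Module.Finite k V]
    (z : lieAlg k A) (hz : z ∈ LieAlgebra.center k (lieAlg k A)) :
    ∃ p : Polynomial k, Squarefree p ∧ Polynomial.aeval (LieModule.toEnd k (lieAlg k A) V z) p = 0 := by
  classical
  obtain ⟨_, D, rfl⟩ := z
  let b := Module.finBasis k V
  choose s hs using fun q : Fin (Module.finrank k V) × Fin (Module.finrank k V) =>
    Submodule.exists_finset_of_mem_iSup _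
      (iSup_eigenspace_center hconn haug hz (coefMap (C := A) (b.coord q.1) (b q.2)))
  let S := Finset.univ.biUnion s
  let p : Polynomial k := ∏ μ ∈ S, (Polynomial.X - Polynomial.C μ)
  have hp : Squarefree p :=
    ((Polynomial.separable_prod_X_sub_C_iff' (f := fun μ => μ)).mpr fun _ _ _ _ h => h).squarefree
  refine ⟨p, hp, LinearMap.ext fun v => ?_⟩
  rw [aeval_toEnd]
  let P := Polynomial.aeval (toConv (LieHopf.dlin D)) p
  have hP : ∀ μ ∈ S, ∀ a ∈ Module.End.eigenspace (dact (C := A) (V := A) (LieHopf.dlin D) : Module.End k A) μ,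
      P • a = 0 := by
    intro μ hμ a ha
    have ha' : (toConv (LieHopf.dlin D)) • a = μ • a := Module.End.mem_eigenspace_iff.mp ha
    show Polynomial.aeval (toConv (LieHopf.dlin D)) (∏ ν ∈ S, (Polynomial.X - Polynomial.C ν)) • a = 0
    rw [← Finset.mul_prod_erase S _ hμ, mul_comm, map_mul, mul_smul, map_sub, Polynomial.aeval_X,
      Polynomial.aeval_C, sub_smul, ha', algebraMap_smul, sub_self, smul_zero]
  have hbj : ∀ i j, P • coefMap (C := A) (b.coord i) (b j) = 0 := fun i j => by
    refine Submodule.iSup_induction _ (motive := fun a => P • a = 0) (hs (i, j)) (fun μ a ha => ?_)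
      (smul_zero _) (fun x y hx hy => by rw [smul_add, hx, hy, add_zero])
    rcases em (μ ∈ s (i, j)) with hμ | hμ
    · rw [iSup_pos hμ] at ha
      exact hP μ (Finset.mem_biUnion.mpr ⟨(i, j), Finset.mem_univ _, hμ⟩) a ha
    · rw [iSup_neg hμ, Submodule.mem_bot] at ha
      rw [ha, smul_zero]
  show P • v = 0
  have hj : ∀ j, P • b j = 0 := fun j => b.ext_elem fun i => by
    rw [map_zero, Finsupp.zero_apply, ← Module.Basis.coord_apply,
      ← counit_coefMap (C := A) (b.coord i) (P • b j), map_smul, hbj, map_zero]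
  rw [← b.sum_repr v, Finset.smul_sum]
  exact Finset.sum_eq_zero fun j _ => by rw [smul_comm, hj, smul_zero]

/-- A connected group in characteristic zero whose irreducible representations are jointly faithful is linearly
reductive. -/
theorem isLinearlyReductive_of_covIdeal (hconn : ∀ e : A, IsIdempotentElem e → e = 0 ∨ e = 1)
    (haug : ∀ a : A, Coalgebra.counit (R := k) a = 0 → a ∈ covIdeal k A) :
    HopfRep.IsLinearlyReductive k A := by
  haveI : ∀ i : Cov k A, LieModule.IsIrreducible k (lieAlg k A) (covMod i) := covMod_irreducible hconn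
  have hc := radical_le_center (k := k) (L := lieAlg k A) (fun i : Cov k A => covMod i) (covMod_faithful haug)
  rw [Groth.Agent.S16709.result k A ‹_›]
  intro V _ _ _ hfin π hπ hcomm
  obtain ⟨v₀, hv₀⟩ := hπ 1
  have hinv : ∀ (x : lieAlg k A) (w : V), π ⁅x, w⁆ = 0 := by
    rintro ⟨_, D, rfl⟩ w
    show π (dact (C := A) (LieHopf.dlin D) w) = 0
    rw [← apply_coefMap]
    have h := congrArg (TensorProduct.lid k A) (LinearMap.congr_fun hcomm w)
    have h' : coefMap (C := A) π w = algebraMap k A (π w) := by
      rw [coefMap_apply, Algebra.algebraMap_eq_smul_one]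
      simpa [lcon] using h
    rw [h', LieHopf.dlin_algebraMap]
  obtain ⟨w, hw, hw1⟩ := exists_lift hc _ le_rfl (fun z hz => exists_squarefree hconn haug z hz) π hinv hv₀
  refine ⟨w, ?_, by rw [hw1]; exact one_ne_zero⟩
  exact UnipSubtorus.coact_eq_of_lie hconn w fun D => hw (lieElt D)

end Stab

end Groth.Agent.LieRed
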